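import Cfsg.Agent.SB.Exc.Tor.W
import Cfsg.Agent.SB.Exc.Defs
import Cfsg.Agent.DS.Ex.TorFrame
import Cfsg.Agent.H378.TorFin
import Cfsg.Agent.H448.FprCent.Det

/-!
# S5765, exceptional groups, toral case: the torus and the setting (helper64)

* `tors n`, `Kr f` : subgroups of the torus; `card_Kr`, `Kr_triv`;
* `rp_map`, `comm_of_rp`, `rp_fr` : frame automorphisms and representatives;
* `TC` : all lifts of `S` normalise the torus, no root is trivial on a non-trivial invariant subgroup; `exists_TC`;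
* `TC.cent`, `TC.ell`.
-/

set_option autoImplicit false
set_option linter.unusedSectionVars false

namespace Cfsg.Agent.SB.Exc.Tor

open CoxeterSystem Cfsg Cfsg.Lie Cfsg.Lie.ChevalleyDatum
open Cfsg.Agent.ChevalleyStructure Cfsg.Agent.ChevalleyStructure.CoxeterGeom
  Cfsg.Agent.ChevalleyStructure.CoxeterGeomTypes
open Cfsg.Agent.Tits.Roots Cfsg.Agent.Nodes Cfsg.Agent.Nodes.BNOf Cfsg.Agent.Nodes.RGDChev
open Cfsg.Agent.KFacts.RgdChevCoord
open Cfsg.Agent.BpExc Cfsg.Agent.BpExc.TorChev Cfsg.Agent.BpExc.Fr Cfsg.Agent.BpExc.LangFr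
open Cfsg.Agent.H469.Exc Cfsg.Agent.H316.U6 Cfsg.Agent.H129.TorusChar Cfsg.Agent.DS.Ex Cfsg.Agent.DS.Ex.Tor
  Cfsg.Agent.DS.Nt Cfsg.Agent.H786.FC

variable {D : ChevalleyDatum} {l : ℕ} {M : CoxeterMatrix (Fin l)} (hp : IsType D l M) (p : ℕ) [Fact p.Prime]

/-- the reflection representation -/
abbrev rp : M.Group →* En l := rep M.toCoxeterSystem hp.isCartan

/-- the elements of the torus of order dividing `n` -/
def tors (n : ℕ) : Subgroup (YY D p) where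
  carrier := {t | t ∈ TT D (KK p) ∧ t ^ n = 1}
  one_mem' := ⟨one_mem _, one_pow _⟩
  mul_mem' := fun {a b} ha hb => ⟨mul_mem ha.1 hb.1, by
    rw [(show Commute a b from TT_comm hp a ha.1 b hb.1).mul_pow, ha.2, hb.2, one_mul]⟩
  inv_mem' := fun {a} ha => ⟨inv_mem ha.1, by rw [inv_pow, ha.2, inv_one]⟩

/-- the elements of the torus trivial on the image of `f` -/
def Kr (f : En l) : Subgroup (YY D p) where
  carrier := {t | t ∈ TT D (KK p) ∧ ∀ x, cX hp t (f x) = 1}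
  one_mem' := ⟨one_mem _, fun _ => cX_one hp _⟩
  mul_mem' := fun {a b} ha hb => ⟨mul_mem ha.1 hb.1, fun x => by rw [cX_mul hp ha.1 hb.1, ha.2, hb.2, one_mul]⟩
  inv_mem' := fun {a} ha => ⟨inv_mem ha.1, fun x => by
    have h := cX_mul hp (inv_mem ha.1) ha.1 (f x)
    rw [inv_mul_cancel, cX_one, ha.2, mul_one] at h
    exact h.symm⟩

variable {hp p}

theorem finite_tors {n : ℕ} (hn : 0 < n) : Finite (tors hp p n) := by
  classical
  refine Finite.of_injective (fun t : tors hp p n => fun i : Fin l =>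
    (⟨cX hp t.1 (sr i), (Polynomial.mem_nthRootsFinset hn 1).2 (by rw [← cX_pow hp t.2.1, t.2.2, cX_one])⟩ :
      Polynomial.nthRootsFinset n (1 : KK p))) fun a b h => ?_
  exact Subtype.ext (cX_inj hp a.2.1 b.2.1 fun i => congrArg Subtype.val (congrFun h i))

theorem exists_ord (hp : IsType D l M) {t : YY D p} (ht : t ∈ TT D (KK p)) : ∃ n, 0 < n ∧ t ^ n = 1 := by
  choose m hm using fun i : Fin l => TorAll.hAlg_of_isAlgebraic p (KK p) (cX hp t (sr i))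
  have h1 : ∀ i, 1 < p ^ m i := fun i => Nat.one_lt_pow (hm i).1.ne' (Fact.out : p.Prime).one_lt
  refine ⟨∏ i, (p ^ m i - 1), Finset.prod_pos fun i _ => Nat.sub_pos_of_lt (h1 i),
    cX_inj hp (pow_mem ht _) (one_mem _) fun i => ?_⟩
  obtain ⟨c, hc⟩ := Finset.dvd_prod_of_mem (fun i => p ^ m i - 1) (Finset.mem_univ i)
  have h2 : cX hp t (sr i) ^ (p ^ m i - 1) = 1 := by
    apply mul_right_cancel₀ ((isMC_cX hp ht).ne_zero (sr i))
    rw [← pow_succ, Nat.sub_add_cancel (h1 i).le, (hm i).2, one_mul]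
  rw [cX_pow hp ht, cX_one, hc, pow_mul, h2, one_pow]

open Cfsg.Agent.H378.TorDual Cfsg.Agent.H378.TorChar in
theorem tchar_eq {t : YY D p} (ht : t ∈ TT D (KK p)) (x : Fin l → ℤ) :
    ((tchar hp ⟨t, ht⟩ (Multiplicative.ofAdd x) : (KK p)ˣ) : KK p) = cX hp t x := by
  change ((∏ i, uch hp i ⟨t, ht⟩ ^ x i : (KK p)ˣ) : KK p) = _
  rw [Units.coe_prod]
  exact Finset.prod_congr rfl fun i _ => Units.val_zpow_eq_zpow_val _ _

open Cfsg.Agent.H378.TorDual Cfsg.Agent.H378.TorChar in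
theorem exists_tchar (hD : Typ D) (φ : Ch l (KK p)) : ∃ t, ∃ ht : t ∈ TT D (KK p), tchar hp ⟨t, ht⟩ = φ := by
  obtain ⟨t, ht, h⟩ := exists_tor hp hD (φ := fun x => (φ (Multiplicative.ofAdd x) : KK p))
    ⟨congrArg Units.val φ.map_one, fun x y => congrArg Units.val (φ.map_mul _ _)⟩
  exact ⟨t, ht, MonoidHom.ext fun x => Units.ext ((tchar_eq ht _).trans (h _))⟩

open Cfsg.Agent.H378.TorDual Cfsg.Agent.H378.TorChar in
theorem card_Kr (hD : Typ D) {f : En l} (hf : ((LinearMap.det f : ℤ) : KK p) ≠ 0) :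
    Nat.card (Kr hp p f) = (LinearMap.det f).natAbs := by
  rw [← card_kerOf (KK p) hf]
  refine Nat.card_congr (Equiv.ofBijective (fun t : Kr hp p f => (⟨tchar hp ⟨t, t.2.1⟩, fun x =>
    Units.ext ((tchar_eq t.2.1 _).trans (t.2.2 x))⟩ : KerOf (KK p) f)) ⟨fun a b h => ?_, fun φ => ?_⟩)
  · have h1 : (⟨a, a.2.1⟩ : ↥(TT D (KK p))) = ⟨b, b.2.1⟩ := tchar_injective hp (congrArg Subtype.val h)
    exact Subtype.ext (congrArg (fun x : ↥(TT D (KK p)) => x.1) h1)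
  · obtain ⟨t, ht, h⟩ := exists_tchar (hp := hp) hD φ.1
    exact ⟨⟨t, ht, fun x => by rw [← tchar_eq ht, h, φ.2 x, Units.val_one]⟩, Subtype.ext h⟩

open Cfsg.Agent.H378.TorDual Cfsg.Agent.H378.TorChar in
theorem Kr_triv (hD : Typ D) {f : En l} (hf : ((LinearMap.det f : ℤ) : KK p) ≠ 0) {x : Fin l → ℤ}
    (h : ∀ t ∈ Kr hp p f, cX hp t x = 1) : ∃ y, f y = x := by
  refine (eq_one_on_iff (KK p) hf x).1 fun φ hφ => ?_
  obtain ⟨t, ht, rfl⟩ := exists_tchar (hp := hp) hD φ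
  exact Units.ext ((tchar_eq ht _).trans (h t ⟨ht, fun y => by rw [← tchar_eq ht, hφ y, Units.val_one]⟩))

theorem mem_Kr_sub {w : M.Group} {t : YY D p} (ht : t ∈ TT D (KK p)) :
    t ∈ Kr hp p (rp hp w - 1) ↔ ∀ x, cX hp t (rp hp w x) = cX hp t x := by
  refine (and_iff_right ht).trans (forall_congr' fun x => ?_)
  rw [LinearMap.sub_apply, Module.End.one_apply, (isMC_cX hp ht).sub, div_eq_one_iff_eq ((isMC_cX hp ht).ne_zero x)]

/-! ### frame automorphisms and representatives -/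

theorem rp_map {φ : MulAut (YY D p)} (hφ : ∀ t, φ t ∈ TT D (KK p) ↔ t ∈ TT D (KK p)) {w : M.Group} {k : YY D p}
    (hk : RP hp p w k) : ∃ w', RP hp p w' (φ k) := rp_of_norm fun s => by
  obtain ⟨s', rfl⟩ := φ.surjective s
  rw [← map_mul, ← map_inv, ← map_mul, hφ, hφ]
  exact hk.conj_iff s'

theorem comm_of_rp {φ : MulAut (YY D p)} {h : (Fin l → ℤ) ≃+ (Fin l → ℤ)} (F : FR hp p φ h) {w w' : M.Group}
    {k : YY D p} (hk : RP hp p w k) (hk' : RP hp p w' (φ k)) (a : Fin l → ℤ) : h (rp hp w a) = rp hp w' (h a) := by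
  have h1 := F.mul hk.fr
  rw [mul_conj_eq] at h1
  exact DFunLike.congr_fun (fr_unique (hp := hp) h1 (hk'.fr.mul F)) a

theorem rp_fr {φ : MulAut (YY D p)} {h : (Fin l → ℤ) ≃+ (Fin l → ℤ)} (F : FR hp p φ h) {w : M.Group} {k : YY D p}
    (hk : RP hp p w k) (hw : ∀ a, h (rp hp w a) = rp hp w (h a)) : RP hp p w (φ k) := by
  obtain ⟨w', hw'⟩ := rp_map F.tor hk
  have h1 : w' = w := rep_injective _ hp.isCartan (LinearMap.ext fun a => by
    obtain ⟨a, rfl⟩ := h.surjective a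
    rw [← comm_of_rp F hk hw', hw])
  rwa [h1] at hw'

theorem rp_T {w : M.Group} {k k' : YY D p} (hk : RP hp p w k) (hk' : RP hp p w k') : k⁻¹ * k' ∈ TT D (KK p) := by
  have h := hk.inv.mul hk'
  rw [inv_mul_cancel] at h
  exact h.mem_T

theorem Mz_eq_one {A : Subgroup (YY D p)} (hA : A ≤ TT D (KK p)) (h : ∀ b, RT hp b → ∃ a ∈ A, cX hp a b ≠ 1)
    {m : YY D p} (hm : m ∈ Mz hp p A) : m = 1 := by
  refine Subgroup.mem_bot.1 (Mz_le (fun b hb => ?_) hm)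
  obtain ⟨a, ha, h1⟩ := h b hb.1
  exact absurd (((mem_Ps hA).1 hb).2 a ha) h1

/-! ### the setting -/

variable {G : Type} [Group G] [Finite G] {T S : Subgroup G}

/-- **The setting.** -/
structure TC (S : Subgroup G) (L : Lift hp p T) (e : ℕ) (v : M.Group) (ε : ℤˣ) (g : (Fin l → ℤ) ≃+ (Fin l → ℤ)) :
    Prop where
  typ : Typ D
  ctx : Ctx p T S
  he : 0 < e
  frob : IsFrob p e L.σ
  fr : FR hp p L.σ g
  hg : ∀ a, g a = (ε : ℤ) • rp hp v a
  hε : ε = 1 ∨ D = chevE6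
  nrm : ∀ φ ∈ L.GH S, ∀ t, φ t ∈ TT D (KK p) ↔ t ∈ TT D (KK p)
  sfr : (D = chevF4 → p ≠ 2) → ∀ φ ∈ L.GH S, ∃ h, FR hp p φ h
  pure : ∀ A : Subgroup (YY D p), A ≤ TT D (KK p) → A ≠ ⊥ → (∀ φ ∈ L.GH S, ∀ a ∈ A, φ a ∈ A) →
    ∀ b, RT hp b → ∃ a ∈ A, cX hp a b ≠ 1

theorem exists_TC (hD : Typ D) (C : Ctx p T S) {q : ℕ} (F : XF hp p q T) {A₀ : Subgroup (YY D p)} (h0 : A₀ ≠ ⊥)
    (hI : F.L.Inv S A₀) (hT : Toral p A₀) (hN : ∀ A₁ : Subgroup (YY D p), A₁ ≠ ⊥ → F.L.Inv S A₁ → ¬ HasRt hp p A₁) :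
    ∃ z v ε g, TC S (F.L.conj z) F.m.e v ε g := by
  obtain ⟨z, hz⟩ := hT
  have pure : ∀ A : Subgroup (YY D p), A ≤ TT D (KK p) → A ≠ ⊥ → (∀ φ ∈ (F.L.conj z).GH S, ∀ a ∈ A, φ a ∈ A) →
      ∀ b, RT hp b → ∃ a ∈ A, cX hp a b ≠ 1 := by
    intro A hA hA0 hAI b hb
    by_contra h
    push Not at h
    refine hN (A.comap (MulAut.conj z).toMonoidHom) (fun e => hA0 ?_) ?_ ⟨z, fun a ha => hA ha, b, hb, fun a ha => h _ ha⟩
    · rw [← Subgroup.map_comap_eq_self_of_surjective (f := (MulAut.conj z).toMonoidHom) (MulAut.conj z).surjective A, e,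
        Subgroup.map_bot]
    · rw [Lift.inv_iff]
      intro φ hφ a ha
      have h1 := hAI (MulAut.conj z * φ * (MulAut.conj z)⁻¹) ((F.L.mem_GH_conj z).2 (by rwa [Lift.cf_conj])) _ ha
      change (MulAut.conj z * φ * (MulAut.conj z)⁻¹) (MulAut.conj z a) ∈ A at h1
      rwa [MulAut.mul_apply, MulAut.inv_apply_self] at h1
  have h1 := (Lift.inv_iff _).1 (F.L.inv_conj z hI)
  obtain ⟨a, ha, ha1⟩ : ∃ a ∈ A₀, a ≠ 1 := by
    by_contra h
    push Not at h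
    exact h0 ((Subgroup.eq_bot_iff_forall _).2 h)
  obtain ⟨n, hn, han⟩ := exists_ord hp (hz a ha)
  have hfin := finite_tors (hp := hp) (p := p) hn
  set B := A₀.map (MulAut.conj z).toMonoidHom ⊓ tors hp p n with hB
  have hBf : Finite B := Finite.of_injective _ (Subgroup.inclusion_injective (inf_le_right : B ≤ tors hp p n))
  have hBT : B ≤ TT D (KK p) := fun x hx => hx.2.1
  have hBI : ∀ φ ∈ (F.L.conj z).GH S, ∀ a ∈ B, φ a ∈ B := fun φ hφ x hx => by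
    have h2 := h1 φ hφ x hx.1
    refine ⟨h2, ?_, by rw [← map_pow, hx.2.2, map_one]⟩
    obtain ⟨y, hy, e⟩ := h2
    rw [← e]
    exact hz y hy
  have hB0 : B ≠ ⊥ := fun e => by
    have h2 : z * a * z⁻¹ ∈ B := ⟨⟨a, ha, rfl⟩, hz a ha, han⟩
    rw [e, Subgroup.mem_bot, mul_inv_eq_one, mul_eq_left] at h2
    exact ha1 h2
  have step : ∀ φ ∈ (F.L.conj z).GH S, ∀ y : YY D p, (∀ t ∈ TT D (KK p), (MulAut.conj y * φ) t ∈ TT D (KK p)) →
      ∃ w k, RP hp p w k ∧ φ = MulAut.conj k * (MulAut.conj y * φ) := fun φ hφ y hy => by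
    obtain ⟨m, hm, w, k, hk, e, -⟩ := form0 (hp := hp) hBT (hBI φ hφ) hy
    rw [Mz_eq_one hBT (pure B hBT hB0 hBI) hm, map_one, one_mul] at e
    exact ⟨w, k, hk, e⟩
  have hσ : MulAut.conj (z * (F.L.σ z)⁻¹)⁻¹ * (F.L.conj z).σ = F.m.σ := by
    rw [Lift.conj_σ, conj_form, ← mul_assoc, ← map_mul, inv_mul_cancel, map_one, one_mul, F.hσ]
  obtain ⟨w, k, hk, e⟩ := step _ ((F.L.conj z).σ_mem_GH C.as.normal C.as.cent S) (z * (F.L.σ z)⁻¹)⁻¹
    fun t ht => by rw [hσ]; exact (F.m.fr.tor t).2 ht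
  rw [hσ] at e
  have hnrm : ∀ φ ∈ (F.L.conj z).GH S, ∀ t, φ t ∈ TT D (KK p) ↔ t ∈ TT D (KK p) := fun φ hφ => by
    obtain ⟨y, hy⟩ := (F.L.conj z).wfr φ ((F.L.conj z).GH_le S hφ)
    obtain ⟨w, k, hk, e⟩ := step φ hφ y fun t ht => (hy.1 t).2 ht
    rw [e]
    exact (wfr_rp hy hk).1
  have hsfr : (D = chevF4 → p ≠ 2) → ∀ φ ∈ (F.L.conj z).GH S, ∃ h, FR hp p φ h := fun h2 φ hφ => by
    obtain ⟨y, h, hy, -⟩ := (F.L.conj z).sfr h2 φ ((F.L.conj z).GH_le S hφ)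
    obtain ⟨w, k, hk, e⟩ := step φ hφ y fun t ht => (hy.tor t).2 ht
    rw [e]
    exact ⟨_, hk.fr.mul hy⟩
  have hfr : FR hp p (F.L.conj z).σ (F.m.g.trans (repAut M.toCoxeterSystem hp.isCartan w)) := by
    rw [e]
    exact hk.fr.mul F.m.fr
  have hfrob : IsFrob p F.m.e (F.L.conj z).σ := by
    rw [e]
    exact F.m.frob.conj_mul k
  obtain ⟨w0, h2 | ⟨h2, h3⟩⟩ := F.gW
  · exact ⟨z, w * w0, 1, _, hD, C, F.m.he, hfrob, hfr, fun a => by
      rw [AddEquiv.trans_apply, repAut_apply, h2, Units.val_one, one_smul, rep_mul_apply], Or.inl rfl, hnrm, hsfr, pure⟩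
  · exact ⟨z, w * w0, -1, _, hD, C, F.m.he, hfrob, hfr, fun a => by
      rw [AddEquiv.trans_apply, repAut_apply, h3, Units.val_neg, Units.val_one, neg_one_smul, rep_mul_apply, map_neg],
      Or.inr h2, hnrm, hsfr, pure⟩

variable {L : Lift hp p T} {e : ℕ} {v : M.Group} {ε : ℤˣ} {g : (Fin l → ℤ) ≃+ (Fin l → ℤ)}

/-- `w` is fixed by the lifts of `S` -/
def Cn (S : Subgroup G) (L : Lift hp p T) (w : M.Group) : Prop := ∃ k, RP hp p w k ∧ ∀ φ ∈ L.GH S, RP hp p w (φ k)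

theorem Cn.pow {w : M.Group} (h : Cn S L w) (n : ℕ) : Cn S L (w ^ n) := by
  obtain ⟨k, h1, h2⟩ := h
  exact ⟨k ^ n, h1.pow n, fun φ hφ => by rw [map_pow]; exact (h2 φ hφ).pow n⟩

namespace TC

variable (H : TC S L e v ε g)
include H

/-- **Centralizers of invariant subgroups.** -/
theorem cent {A : Subgroup (YY D p)} {r : ℕ} (hr : r.Prime) (hA : A ≤ tors hp p r) (h0 : A ≠ ⊥)
    (hI : ∀ φ ∈ L.GH S, ∀ a ∈ A, φ a ∈ A) {w : M.Group} {k : YY D p} (hk : RP hp p w k) (hc : ∀ a ∈ A, k * a = a * k) :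
    ∃ n : ℕ, w ^ r ^ n = 1 := by
  have := finW hp
  have := finite_tors (hp := hp) (p := p) hr.pos
  have hf : Finite A := Finite.of_injective _ (Subgroup.inclusion_injective hA)
  have hT : A ≤ TT D (KK p) := fun a ha => (hA ha).1
  obtain ⟨m, hm, w', hw', k', hk', -, e⟩ := form hp (Z := (A : Set (YY D p))) (Set.toFinite _) hT (c := k) (fun a ha => hc a ha)
  rw [Mz_eq_one hT (H.pure A hT h0 hI) hm, one_mul] at e
  rw [hk.unique (e ▸ hk')]
  exact pp_pow hT hr (fun t ht => ⟨1, by rw [pow_one]; exact (hA ht).2⟩) hw'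

theorem inv_Kr {w : M.Group} (hw : Cn S L w) : ∀ φ ∈ L.GH S, ∀ a ∈ Kr hp p (rp hp w - 1), φ a ∈ Kr hp p (rp hp w - 1) := by
  obtain ⟨k, h1, h2⟩ := hw
  intro φ hφ a ha
  have h3 := (H.nrm φ hφ a).2 ha.1
  refine (mem_Kr_sub h3).2 ((h2 φ hφ).cX_of_comm h3 ?_)
  rw [← map_mul, ← map_mul, h1.comm ha.1 ((mem_Kr_sub ha.1).1 ha)]

theorem inv_tors (n : ℕ) : ∀ φ ∈ L.GH S, ∀ a ∈ tors hp p n, φ a ∈ tors hp p n := fun φ hφ a ha =>
  ⟨(H.nrm φ hφ a).2 ha.1, by rw [← map_pow, ha.2, map_one]⟩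

theorem cn (h2 : D = chevF4 → p ≠ 2) : Cn S L v := by
  obtain ⟨k, hk⟩ := exists_RP hp p v
  refine ⟨k, hk, fun φ hφ => ?_⟩
  obtain ⟨h, F⟩ := H.sfr h2 φ hφ
  refine rp_fr F hk fun a => ?_
  have h1 := F.mul H.fr
  rw [L.comm_σ φ (L.GH_le S hφ)] at h1
  have h3 : h (g a) = g (h a) := DFunLike.congr_fun (fr_unique (hp := hp) h1 (H.fr.mul F)) a
  rw [H.hg, H.hg, map_zsmul] at h3
  exact smul_right_injective _ ε.ne_zero h3

/-- **An invariant element of `W` is trivial or has no fixed vector.** -/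
theorem ell {w : M.Group} (hw : Cn S L w) : w = 1 ∨ Ell (rp hp w) := by
  have := finW hp
  refine or_iff_not_imp_right.2 fun h => ?_
  obtain ⟨x, hx, hx0⟩ : ∃ x, rp hp w x = x ∧ x ≠ 0 := by
    by_contra h1
    push Not at h1
    exact h h1
  obtain ⟨j, hj⟩ := Function.ne_iff.1 hx0
  have hn : 0 < Nat.card M.Group := Nat.card_pos
  have hwn : rp hp w ^ Nat.card M.Group = 1 := by rw [← map_pow, pow_card_eq_one', map_one]
  obtain ⟨s, hs1, hs⟩ := Nat.exists_infinite_primes (Nat.card M.Group * (x j).natAbs + p + 1)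
  have hx1 : 0 < (x j).natAbs := Int.natAbs_pos.2 hj
  have hpos := Nat.mul_pos hn hx1
  obtain ⟨ζ, hζ⟩ := exists_prim (p := p) hs (by omega)
  let f : (Fin l → ℤ) →+ ℤ := (Pi.evalAddMonoidHom (fun _ => ℤ) j).comp
    (∑ i ∈ Finset.range (Nat.card M.Group), rp hp w ^ i).toAddMonoidHom
  have hf : ∀ y, f y = (∑ i ∈ Finset.range (Nat.card M.Group), rp hp w ^ i) y j := fun _ => rfl
  obtain ⟨t, ht, h1⟩ := exists_tor_zpow hp H.typ (hζ.ne_zero hs.ne_zero) f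
  obtain ⟨k, hk, hk'⟩ := hw
  have hne : Kr hp p (rp hp w - 1) ⊓ tors hp p s ≠ ⊥ := fun e => by
    have h3 : t ∈ Kr hp p (rp hp w - 1) ⊓ tors hp p s := ⟨(mem_Kr_sub ht).2 fun y => by
      rw [h1, h1, hf, hf, apply_sum hwn], ht, pow_eq_one_of_cX (hp := hp) ht fun y => by
      rw [h1, ← zpow_natCast, ← zpow_mul, mul_comm, zpow_mul, zpow_natCast, hζ.pow_eq_one, one_zpow]⟩
    rw [e, Subgroup.mem_bot] at h3
    have h4 := h1 x
    rw [h3, cX_one, hf, sum_fix hx, eq_comm, hζ.zpow_eq_one_iff_dvd, Pi.smul_apply, smul_eq_mul] at h4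
    have h5 : s ≤ _ := Nat.le_of_dvd hpos (by
      have h6 := Int.natAbs_dvd_natAbs.2 h4
      rwa [Int.natAbs_mul, Int.natAbs_natCast, Int.natAbs_natCast] at h6)
    omega
  obtain ⟨n, h2⟩ := H.cent hs inf_le_right hne
    (fun φ hφ a ha => ⟨H.inv_Kr ⟨k, hk, hk'⟩ φ hφ a ha.1, H.inv_tors s φ hφ a ha.2⟩) hk
    fun a ha => hk.comm ha.1.1 ((mem_Kr_sub ha.1.1).1 ha.1)
  have h3 : (s ^ n).Coprime (Nat.card M.Group) := Nat.Coprime.pow_left n ((Nat.Prime.coprime_iff_not_dvd hs).2 fun h4 => by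
    have h5 := Nat.le_of_dvd hn h4
    nlinarith)
  rw [← orderOf_eq_one_iff]
  exact Nat.eq_one_of_dvd_coprimes h3 (orderOf_dvd_of_pow_eq_one h2) (orderOf_dvd_natCard w)

end TC

end Cfsg.Agent.SB.Exc.Tor
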