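import Cfsg.Agent.SB.Exc.Tor.Cnt6
import Cfsg.Agent.ChevalleyStructure.CoxeterWordCheck
import Cfsg.Agent.DS.Ex.Defs
import Cfsg.Agent.H129.TorusChar
import Cfsg.Agent.S1092
import Cfsg.Agent.S1093

/-!
# S5765, exceptional groups, toral case: the Weyl groups (helper64)

* `typ_cases`, `cardW`; `notSolv6`, `notSolv7`; `neg_not_W6`; `card_le_648`; `not_ell_sq7`;
* `triv3` : a character of order three of the root lattice of `E₆` is trivial on a root;
* `Lg`, `Lg.map`, `lg_even`, `exists_lg` : the long roots of `F₄`.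
-/

set_option autoImplicit false

namespace Cfsg.Agent.SB.Exc.Tor

open CoxeterSystem Cfsg.Lie Cfsg.Agent.ChevalleyStructure.CoxeterGeom Cfsg.Agent.ChevalleyStructure.CoxeterGeomTypes
  Cfsg.Agent.Nodes.RGDChev Cfsg.Agent.H893.Tor Cfsg.Agent.ChevalleyStructure.RootVecTab
  Cfsg.Agent.ChevalleyStructure.RootVec Cfsg.Agent.ChevalleyStructure.CoxeterWordCheck Cfsg.Agent.Tits.Roots
  Cfsg.Agent.DS.Ex Cfsg.Agent.H129.TorusChar Cfsg.Agent.Nodes.KindChev
open scoped commutatorElement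

theorem typ_cases {D : ChevalleyDatum} {l : ℕ} {M : CoxeterMatrix (Fin l)} (hp : IsType D l M) (hD : Typ D) :
    (D = chevF4 ∧ (⟨l, M⟩ : Σ n : ℕ, CoxeterMatrix (Fin n)) = ⟨4, CoxeterMatrix.F₄⟩) ∨
    (D = chevE6 ∧ (⟨l, M⟩ : Σ n : ℕ, CoxeterMatrix (Fin n)) = ⟨6, CoxeterMatrix.E₆⟩) ∨
    (D = chevE7 ∧ (⟨l, M⟩ : Σ n : ℕ, CoxeterMatrix (Fin n)) = ⟨7, CoxeterMatrix.E₇⟩) ∨
    (D = chevE8 ∧ (⟨l, M⟩ : Σ n : ℕ, CoxeterMatrix (Fin n)) = ⟨8, CoxeterMatrix.E₈⟩) := by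
  have h0 : 48 ≤ D.nroots := by
    rcases hD with rfl | rfl | rfl | rfl <;> decide +kernel
  simp only [IsType, typeList, List.mem_cons, List.not_mem_nil, or_false, Prod.mk.injEq] at hp
  rcases hp with ⟨h, e⟩ | ⟨h, e⟩ | ⟨h, e⟩ | h | h | h | h
  · rw [h] at h0; exact absurd h0 (by decide +kernel)
  · rw [h] at h0; exact absurd h0 (by decide +kernel)
  · rw [h] at h0; exact absurd h0 (by decide +kernel)
  · exact Or.inl h
  · exact Or.inr (Or.inl h)
  · exact Or.inr (Or.inr (Or.inl h))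
  · exact Or.inr (Or.inr (Or.inr h))

theorem cardW4 : Nat.card CoxeterMatrix.F₄.Group = 1152 := S1092.result (⟨4, CoxeterMatrix.F₄⟩, 1152) (by simp)
theorem cardW6 : Nat.card CoxeterMatrix.E₆.Group = 51840 := S1093.result (⟨6, CoxeterMatrix.E₆⟩, 51840) (by simp)
theorem cardW7 : Nat.card CoxeterMatrix.E₇.Group = 2903040 := S1093.result (⟨7, CoxeterMatrix.E₇⟩, 2903040) (by simp)
theorem cardW8 : Nat.card CoxeterMatrix.E₈.Group = 696729600 :=
  S1093.result (⟨8, CoxeterMatrix.E₈⟩, 696729600) (by simp)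

theorem notSolv {n : ℕ} {W : Type*} [Group W] {M : CoxeterMatrix (Fin n)} (cs : CoxeterSystem M W)
    {A : Fin n → Fin n → ℤ} (h : IsCartan M A) (X Y Z : List (Fin n)) (h1 : check n (rows A) (X.map (·.val)) = false)
    (h2 : (List.range n).all (fun i => actList (rows A) (X.map (·.val)) (unit n i) == actList (rows A)
      ((Z ++ (X ++ (Y ++ X ++ Y.reverse) ++ X.reverse ++ (Y ++ X ++ Y.reverse).reverse) ++ Z.reverse).map (·.val))
        (unit n i)) = true) : ¬ Group.IsSolvable W := by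
  have key := wordProd_eq_wordProd cs h _ _ h2
  rw [wordProd_append, wordProd_append, wordProd_append, wordProd_append, wordProd_append, wordProd_reverse,
    wordProd_reverse, wordProd_reverse, wordProd_append, wordProd_append, wordProd_reverse,
    ← commutatorElement_def] at key
  refine not_isSolvable_of_mem_derivedSeries (wordProd_ne_one cs h X h1) fun n => ?_
  induction n with
  | zero => exact Subgroup.mem_top _
  | succ n ih =>
    rw [key]
    exact (derivedSeries_normal _ _).conj_mem _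
      (Subgroup.commutator_mem_commutator ih ((derivedSeries_normal _ _).conj_mem _ ih _)) _

theorem notSolv6 : ¬ Group.IsSolvable CoxeterMatrix.E₆.Group :=
  notSolv CoxeterMatrix.E₆.toCoxeterSystem hpE6.isCartan [0, 2] [2, 0, 3, 2, 0, 4, 3, 2] [2, 3, 2] (by decide +kernel)
    (by rw [show cartanOf chevE6 6 = _ from A6_eq]; decide +kernel)

theorem A7_eq : cartanOf chevE7 7 = ![![2, 0, -1, 0, 0, 0, 0], ![0, 2, 0, -1, 0, 0, 0], ![-1, 0, 2, -1, 0, 0, 0],
    ![0, -1, -1, 2, -1, 0, 0], ![0, 0, 0, -1, 2, -1, 0], ![0, 0, 0, 0, -1, 2, -1], ![0, 0, 0, 0, 0, -1, 2]] := by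
  decide +kernel

theorem notSolv7 : ¬ Group.IsSolvable CoxeterMatrix.E₇.Group :=
  notSolv CoxeterMatrix.E₇.toCoxeterSystem hpE7.isCartan [0, 2] [2, 0, 3, 2, 0, 4, 3, 2] [2, 3, 2] (by decide +kernel)
    (by rw [A7_eq]; decide +kernel)

section E6

/-- the reflection representation of `W(E₆)` -/
abbrev rp6 : CoxeterMatrix.E₆.Group →* En 6 := rep CoxeterMatrix.E₆.toCoxeterSystem hpE6.isCartan

theorem neg_not_W6 (w : CoxeterMatrix.E₆.Group) : rp6 w ≠ -1 := by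
  have key : ∃ y, rp6 w ![1, 0, -1, 0, 1, -1] = ![1, 0, -1, 0, 1, -1] + (3 : ℤ) • y := by
    induction w using CoxeterMatrix.E₆.toCoxeterSystem.simple_induction_left with
    | one => exact ⟨0, by simp⟩
    | mul_simple_left w i ih =>
      obtain ⟨y, hy⟩ := ih
      have h1 : ∀ i : Fin 6, (3 : ℤ) ∣ pairing A6 i ![1, 0, -1, 0, 1, -1] := by rw [A6_eq]; decide
      obtain ⟨c, hc⟩ := h1 i
      refine ⟨rp6 (CoxeterMatrix.E₆.toCoxeterSystem.simple i) y - c • sr i, ?_⟩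
      rw [rep_mul_apply, hy, map_add, map_smul, rep_simple_eq _ _ _ ![1, 0, -1, 0, 1, -1], hc, smul_sub, mul_smul]
      abel
  intro h
  obtain ⟨y, hy⟩ := key
  have h1 := congrFun hy 0
  rw [h] at h1
  simp at h1
  omega

theorem r6_iff {x : Fin 6 → ℤ} : R6 x ↔ IsRoot CoxeterMatrix.E₆.toCoxeterSystem hpE6.isCartan x :=
  (isRoot_iff hpE6 _ x).symm

theorem card_le_648 {v : CoxeterMatrix.E₆.Group} (hv : ∑ i ∈ Finset.range 3, rp6 v ^ i = 0)
    (H : Subgroup CoxeterMatrix.E₆.Group) (hH : ∀ w ∈ H, w * v = v * w) : Nat.card H ≤ 648 := by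
  have := finite_W hpE6 CoxeterMatrix.E₆.toCoxeterSystem
  let ρ : H × ℤˣ →* En 6 :=
    { toFun := fun k => (k.2 : ℤ) • rp6 k.1
      map_one' := by simp
      map_mul' := fun a b => by
        simp only [Prod.snd_mul, Units.val_mul, Prod.fst_mul, Subgroup.coe_mul, map_mul, smul_mul_smul_comm] }
  have hρ : ∀ k x, ρ k x = (k.2 : ℤ) • rp6 k.1 x := fun _ _ => rfl
  have hB := bf_rep CoxeterMatrix.E₆.toCoxeterSystem hpE6.isCartan A6_symm
  have h1 := card_le_1296 ρ (fun k hk => ?_) (fun k x hx => ?_) (fun k x y => ?_) hv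
    (fun x hx => r6_iff.2 ((r6_iff.1 hx).act v)) (hB v) fun k x => ?_
  · rw [Nat.card_prod, Nat.card_eq_fintype_card (α := ℤˣ), Fintype.card_units_int] at h1
    omega
  · have h2 : (k.2 : ℤ) • rp6 k.1 = 1 := hk
    rcases Int.units_eq_one_or k.2 with e | e
    · rw [e, Units.val_one, one_smul, ← map_one rp6] at h2
      exact Prod.ext (Subtype.ext (rep_injective _ _ h2)) e
    · rw [e, Units.val_neg, Units.val_one, neg_one_smul, neg_eq_iff_eq_neg] at h2
      exact absurd h2 (neg_not_W6 _)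
  · have h2 := (r6_iff.1 hx).act k.1.1
    rw [hρ, r6_iff]
    rcases Int.units_eq_one_or k.2 with e | e
    · rwa [e, Units.val_one, one_smul]
    · rw [e, Units.val_neg, Units.val_one, neg_one_smul]
      exact h2.neg
  · rw [hρ, hρ, bf_smul_left, bf_smul_right A6_symm, hB, ← mul_assoc, Int.units_coe_mul_self, one_mul]
  · rw [hρ, hρ, map_smul, ← rep_mul_apply, ← rep_mul_apply, hH _ k.1.2]

theorem triv3 {k : Type*} [Field k] {φ : (Fin 6 → ℤ) → k} (h : IsMC φ) (h3 : ∀ x, φ x ^ 3 = 1) :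
    ∃ b, IsRoot CoxeterMatrix.E₆.toCoxeterSystem hpE6.isCartan b ∧ φ b = 1 := by
  by_contra h0
  have h1 : ∀ r < 72, φ (vec chevE6 6 r) ≠ 1 := fun r hr e => h0 ⟨_, r6_iff.1 ⟨r, hr, rfl⟩, e⟩
  have h2 : ∀ x y, φ x ≠ 1 → φ y ≠ 1 → φ (x + y) ≠ 1 → φ x = φ y := fun x y hx hy hxy => by
    have e1 : φ x ^ 2 + φ x + 1 = 0 := by
      refine (mul_eq_zero.1 (?_ : (φ x - 1) * _ = 0)).resolve_left (sub_ne_zero.2 hx)
      linear_combination h3 x
    have e2 : φ y ^ 2 + φ y + 1 = 0 := by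
      refine (mul_eq_zero.1 (?_ : (φ y - 1) * _ = 0)).resolve_left (sub_ne_zero.2 hy)
      linear_combination h3 y
    have e3 : (φ x - φ y) * (φ x + φ y + 1) = 0 := by linear_combination e1 - e2
    refine sub_eq_zero.1 ((mul_eq_zero.1 e3).resolve_right fun e4 => hxy ?_)
    rw [h.add]
    linear_combination (φ x) * e4 - e1 + (1 - φ x) * e1 + h3 x
  have e1 : vec chevE6 6 57 = vec chevE6 6 56 + vec chevE6 6 42 := by decide +kernel
  have e2 : vec chevE6 6 43 = vec chevE6 6 42 + vec chevE6 6 39 := by decide +kernel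
  have e3 : vec chevE6 6 58 = vec chevE6 6 56 + vec chevE6 6 42 + vec chevE6 6 39 := by decide +kernel
  have a1 := h2 _ _ (h1 56 (by norm_num)) (h1 42 (by norm_num)) (e1 ▸ h1 57 (by norm_num))
  have a2 := h2 _ _ (h1 42 (by norm_num)) (h1 39 (by norm_num)) (e2 ▸ h1 43 (by norm_num))
  refine h1 58 (by norm_num) ?_
  rw [e3, h.add, h.add, a1, ← a2, ← h3 (vec chevE6 6 42)]
  ring

end E6

theorem not_ell_sq7 (v : CoxeterMatrix.E₇.Group) : ¬ Ell (rep CoxeterMatrix.E₇.toCoxeterSystem hpE7.isCartan (v ^ 2)) := by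
  have hs : ∀ i j, cartanOf chevE7 7 i j = cartanOf chevE7 7 j i := by rw [A7_eq]; decide
  have h1 : ∀ x y : Fin 7 → ℤ, bf (cartanOf chevE7 7) x y = y ⬝ᵥ (Matrix.of (cartanOf chevE7 7)).mulVec x := fun x y => by
    simp only [bf, qf, pairing, dotProduct, Matrix.mulVec, Matrix.of_apply, one_mul]
    exact Finset.sum_congr rfl fun i _ => mul_comm _ _
  refine not_ell_odd (A := Matrix.of (cartanOf chevE7 7)) (by decide) (fun h => ?_) (fun x y => ?_) ?_
  · have h2 : Matrix.of ![![4, 4, 6, 8, 6, 4, 2], ![4, 7, 8, 12, 9, 6, 3], ![6, 8, 12, 16, 12, 8, 4],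
        ![8, 12, 16, 24, 18, 12, 6], ![6, 9, 12, 18, 15, 10, 5], ![4, 6, 8, 12, 10, 8, 4], ![2, 3, 4, 6, 5, 4, 3]] *
        Matrix.of (cartanOf chevE7 7) = (2 : ℤ) • 1 := by
      rw [A7_eq]
      decide +kernel
    have h3 := congrArg Matrix.det h2
    rw [Matrix.det_mul, h, mul_zero, Matrix.det_smul, Matrix.det_one] at h3
    norm_num at h3
  · rw [← h1, ← h1, bf_rep _ _ hs]
  · have h2 : IsUnit (LinearMap.det (rep CoxeterMatrix.E₇.toCoxeterSystem hpE7.isCartan v)) :=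
      ((Group.isUnit v).map _).map _
    rw [map_pow, map_pow, pow_two, Int.isUnit_mul_self h2]

section F4

variable {I W : Type*} [Fintype I] [DecidableEq I] [Group W] {M : CoxeterMatrix I}
  (cs : CoxeterSystem M W) {A : I → I → ℤ} (h : IsCartan M A)

/-- long roots -/
def Lg (a : I → ℤ) : Prop := IsRoot cs h a ∧ ∃ b c, IsRoot cs h b ∧ IsRoot cs h c ∧ IsRoot cs h (b - c) ∧ a = b + c

variable {cs h} in
theorem Lg.map {a : I → ℤ} (ha : Lg cs h a) {g : (I → ℤ) ≃+ (I → ℤ)} (hg : ∀ a, IsRoot cs h (g a) ↔ IsRoot cs h a) :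
    Lg cs h (g a) := by
  obtain ⟨h1, b, c, h2, h3, h4, rfl⟩ := ha
  exact ⟨(hg _).2 h1, g b, g c, (hg _).2 h2, (hg _).2 h3, by rw [← map_sub]; exact (hg _).2 h4, map_add _ _ _⟩

/-- the roots of `F₄` -/
def L4 : List (ℤ × ℤ × ℤ × ℤ) := (List.range 48).map fun r => (rt chevF4 r 0, rt chevF4 r 1, rt chevF4 r 2, rt chevF4 r 3)

theorem mem_L4 {a : Fin 4 → ℤ} (ha : IsRoot CoxeterMatrix.F₄.toCoxeterSystem hpF4.isCartan a) :
    (a 0, a 1, a 2, a 3) ∈ L4 := by
  obtain ⟨r, hr, rfl⟩ := (isRoot_iff hpF4 _ a).1 ha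
  exact List.mem_map.2 ⟨r, List.mem_range.2 hr, rfl⟩

theorem lg_even {a : Fin 4 → ℤ} (ha : Lg CoxeterMatrix.F₄.toCoxeterSystem hpF4.isCartan a) : Even (a 0) := by
  obtain ⟨h1, b, c, h2, h3, h4, rfl⟩ := ha
  have key : ∀ b ∈ L4, ∀ c ∈ L4, (b.1 + c.1) % 2 = 0 ∨
      (b.1 + c.1, b.2.1 + c.2.1, b.2.2.1 + c.2.2.1, b.2.2.2 + c.2.2.2) ∉ L4 ∨
      (b.1 - c.1, b.2.1 - c.2.1, b.2.2.1 - c.2.2.1, b.2.2.2 - c.2.2.2) ∉ L4 := by decide +kernel
  rcases key _ (mem_L4 h2) _ (mem_L4 h3) with e | e | e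
  · exact Int.even_iff.2 e
  · exact absurd (mem_L4 h1) e
  · exact absurd (mem_L4 h4) e

theorem exists_lg : ∃ a, Lg CoxeterMatrix.F₄.toCoxeterSystem hpF4.isCartan a := by
  have e1 : vec chevF4 4 30 = vec chevF4 4 28 + vec chevF4 4 27 := by decide +kernel
  have e2 : vec chevF4 4 28 - vec chevF4 4 27 = vec chevF4 4 25 := by decide +kernel
  exact ⟨_, isRoot_vec hpF4 _ (r := 30) (by decide), _, _, isRoot_vec hpF4 _ (r := 28) (by decide),
    isRoot_vec hpF4 _ (r := 27) (by decide), e2 ▸ isRoot_vec hpF4 _ (r := 25) (by decide), e1⟩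

end F4

end Cfsg.Agent.SB.Exc.Tor
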