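import Cfsg.Agent.SB.Exc.Tor.Set
import Cfsg.Agent.SB.Exc.NT.Ind
import Cfsg.Agent.SB.R1.L2A
import Cfsg.Agent.DS.Nt.Glue

/-!
# S5765, exceptional groups, toral case: the normaliser of the finite torus (helper64)

* `TF` : the fixed points of `σ` in the torus; `TC.mem_TF`, `TC.card_TF`, `TC.card_TF_le`;
* `IndL`, `Om`, `exists_om`, `Om.card_le` : the map to `W` of a group of inner-diagonal elements;
* `TC.mem_S` : the normaliser in `T` of the torus lies in `S`; `TC.solv`; `TC.fit_pow`.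
-/

set_option autoImplicit false
set_option linter.unusedSectionVars false

namespace Cfsg.Agent.SB.Exc.Tor

open CoxeterSystem Cfsg Cfsg.Lie Cfsg.Lie.ChevalleyDatum
open Cfsg.Agent.ChevalleyStructure Cfsg.Agent.ChevalleyStructure.CoxeterGeom
  Cfsg.Agent.ChevalleyStructure.CoxeterGeomTypes
open Cfsg.Agent.Tits.Roots Cfsg.Agent.Nodes Cfsg.Agent.Nodes.BNOf Cfsg.Agent.Nodes.RGDChev
open Cfsg.Agent.KFacts.RgdChevCoord
open Cfsg.Agent.BpExc Cfsg.Agent.BpExc.TorChev Cfsg.Agent.BpExc.Fr Cfsg.Agent.BpExc.LangFr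
open Cfsg.Agent.H469.Exc Cfsg.Agent.H316.U6 Cfsg.Agent.H129.TorusChar Cfsg.Agent.DS.Ex Cfsg.Agent.DS.Ex.Tor
  Cfsg.Agent.DS.Nt Cfsg.Agent.H786.FC

variable {D : ChevalleyDatum} {l : ℕ} {M : CoxeterMatrix (Fin l)} {hp : IsType D l M} {p : ℕ} [Fact p.Prime]

theorem cX_ext {s t : YY D p} (hs : s ∈ TT D (KK p)) (ht : t ∈ TT D (KK p)) {g : (Fin l → ℤ) ≃+ (Fin l → ℤ)}
    (h : ∀ x, cX hp s (g x) = cX hp t (g x)) : s = t :=
  cX_inj hp hs ht fun i => by rw [← g.apply_symm_apply (sr i), h]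

theorem pow_sum_eq_one {t : YY D p} (ht : t ∈ TT D (KK p)) {u : En l} {a n : ℕ} (h : ∀ x, cX hp t (u x) = cX hp t x ^ a)
    (hu : ∑ i ∈ Finset.range n, u ^ i = 0) : t ^ ∑ i ∈ Finset.range n, a ^ i = 1 := by
  refine pow_eq_one_of_cX (hp := hp) ht fun x => ?_
  have h1 : ∀ i, cX hp t ((u ^ i) x) = cX hp t x ^ a ^ i := fun i => by
    induction i with
    | zero => rw [pow_zero, pow_zero, pow_one, Module.End.one_apply]
    | succ i ih => rw [pow_succ', Module.End.mul_apply, h, ih, ← pow_mul, ← pow_succ]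
  rw [← Finset.prod_pow_eq_pow_sum, ← Finset.prod_congr rfl fun i _ => h1 i, ← (isMC_cX hp ht).sum, ← LinearMap.sum_apply,
    hu, LinearMap.zero_apply, (isMC_cX hp ht).zero]

theorem eq_one_of_pow_p (hp : IsType D l M) {t : YY D p} (ht : t ∈ TT D (KK p)) (h : t ^ p = 1) : t = 1 :=
  cX_inj hp ht (one_mem _) fun i => by
    rw [cX_one]
    apply frobenius_inj (KK p) p
    rw [frobenius_def, ← cX_pow hp ht, h, cX_one, map_one]

variable (hp p) in
/-- the finite torus -/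
abbrev TF (e : ℕ) (v : M.Group) (ε : ℤˣ) : Subgroup (YY D p) :=
  Kr hp p ((ε : ℤ) • rp hp v - ((p ^ e : ℕ) : ℤ) • (1 : En l))

theorem smul_rp_pow (v : M.Group) (ε : ℤˣ) : ((ε : ℤ) • rp hp v) ^ (2 * Nat.card M.Group) = 1 := by
  rw [smul_pow, ← map_pow, mul_comm 2, pow_mul v, pow_card_eq_one', one_pow, map_one, mul_comm, pow_mul,
    ← Units.val_pow_eq_pow_val, Int.units_sq, Units.val_one, one_pow, one_smul]

theorem card_W_pos (hp : IsType D l M) : 0 < 2 * Nat.card M.Group := by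
  have := finW hp
  exact Nat.mul_pos two_pos Nat.card_pos

theorem det_TF {e : ℕ} (he : 0 < e) (v : M.Group) (ε : ℤˣ) :
    ((LinearMap.det ((ε : ℤ) • rp hp v - ((p ^ e : ℕ) : ℤ) • (1 : En l)) : ℤ) : KK p) ≠ 0 := by
  refine H378.TorFin.det_ne_zero (w' := ((ε : ℤ) • rp hp v) ^ (2 * Nat.card M.Group - 1)) ?_ ?_
  · rw [← pow_succ', Nat.sub_add_cancel (card_W_pos hp), smul_rp_pow]
  · rw [Int.cast_natCast, Nat.cast_pow, CharP.cast_eq_zero, zero_pow he.ne']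

variable {G : Type} [Group G] [Finite G] {T S K : Subgroup G} {L : Lift hp p T} {e : ℕ} {v : M.Group} {ε : ℤˣ}
  {g : (Fin l → ℤ) ≃+ (Fin l → ℤ)}

/-! ### induced elements -/

variable (L) in
/-- `y` induces `c` -/
def IndL (y : YY D p) (c : G) : Prop := ∀ x x' : T, (x' : G) = c * x * c⁻¹ → y * L.ι x * y⁻¹ = L.ι x'

theorem IndL.unique (hT : T.Normal) {y y' : YY D p} {c : G} (h : IndL L y c) (h' : IndL L y' c) : y = y' := by
  have h1 : y'⁻¹ * y = 1 := L.cent _ fun x => by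
    have h2 := h x ⟨c * x * c⁻¹, hT.conj_mem _ x.2 c⟩ rfl
    have h3 := h' x ⟨c * x * c⁻¹, hT.conj_mem _ x.2 c⟩ rfl
    calc y'⁻¹ * y * L.ι x = y'⁻¹ * (y * L.ι x * y⁻¹) * y := by group
      _ = y'⁻¹ * (y' * L.ι x * y'⁻¹) * y := by rw [h2, h3]
      _ = _ := by group
  exact (inv_mul_eq_one.1 h1).symm

theorem IndL.mul (hT : T.Normal) {y y' : YY D p} {c c' : G} (h : IndL L y c) (h' : IndL L y' c') :
    IndL L (y * y') (c * c') := fun x x' e => by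
  have h1 := h' x ⟨c' * x * c'⁻¹, hT.conj_mem _ x.2 c'⟩ rfl
  have h2 := h ⟨c' * x * c'⁻¹, hT.conj_mem _ x.2 c'⟩ x' (by rw [e]; group)
  rw [← h2, ← h1]
  group

theorem indL_iota (x : T) : IndL L (L.ι x) x := fun u u' e => by
  rw [← map_inv, ← map_mul, ← map_mul]
  congr 1
  exact Subtype.ext e.symm

theorem IndL.pow (hT : T.Normal) {y : YY D p} {c : G} (h : IndL L y c) (n : ℕ) : IndL L (y ^ n) (c ^ n) := by
  induction n with
  | zero =>
    have h1 := indL_iota (L := L) 1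
    rw [map_one] at h1
    rwa [pow_zero, pow_zero]
  | succ n ih =>
    rw [pow_succ, pow_succ]
    exact ih.mul hT h

theorem IndL.fix {y : YY D p} {c : G} (h : IndL L y c) : L.σ y = y := L.fix_of_conj_mem (L.full y c h)

theorem IndL.mem_GH (hT : AS T) {y : YY D p} {c : G} (h : IndL L y c) (hc : c ∈ S) : MulAut.conj y ∈ L.GH S :=
  L.mem_GH.2 ⟨L.full y c h, by rwa [L.π_eq hT.normal hT.cent ⟨_, L.full y c h⟩ h]⟩

theorem IndL.comm {y : YY D p} {c : G} (h : IndL L y c) {x : T} (hx : c * x = x * c) : y * L.ι x = L.ι x * y :=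
  mul_inv_eq_iff_eq_mul.1 (h x x (by rw [hx, mul_inv_cancel_right]))

theorem indL_conj {q : ℕ} {F : XF hp p q T} {y : YY D p} {c : G} (h : F.Ind y c) (z : YY D p) :
    IndL (F.L.conj z) (z * y * z⁻¹) c := fun x x' e => by
  rw [Lift.conj_ι, Lift.conj_ι, ← h x x' e]
  group

variable (L) in
/-- the maps to `Y` and to `W` -/
structure Om (θ : K →* YY D p) (ω : K →* M.Group) : Prop where
  ind : ∀ c, IndL L (θ c) c
  rp : ∀ c, RP hp p (ω c) (θ c)

theorem exists_om (hT : T.Normal) (h : ∀ c ∈ K, ∃ y w, IndL L y c ∧ RP hp p w y) :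
    ∃ (θ : K →* YY D p) (ω : K →* M.Group), Om L θ ω := by
  choose y w h1 h2 using fun c : K => h c c.2
  have h3 : ∀ c c', y (c * c') = y c * y c' := fun c c' => (h1 _).unique hT ((h1 c).mul hT (h1 c'))
  exact ⟨MonoidHom.mk' y h3, MonoidHom.mk' w fun c c' => (h2 _).unique (by rw [h3]; exact (h2 c).mul (h2 c')), h1, h2⟩

namespace Om

variable {θ : K →* YY D p} {ω : K →* M.Group} (O : Om L θ ω)
include O

theorem inj (hT : AS T) : Function.Injective θ := fun c c' h =>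
  Subtype.ext (eq_of_act hT.normal hT.cent L.inj (φ := fun x => θ c * x * (θ c)⁻¹) (O.ind c) (h ▸ O.ind c'))

theorem eq_iota (hT : AS T) (c : K) (hc : (c : G) ∈ T) : θ c = L.ι ⟨c, hc⟩ := (O.ind c).unique hT.normal (indL_iota (⟨c, hc⟩ : T))

theorem card_le (hT : AS T) {B : Subgroup (YY D p)} [Finite B] (hB : ∀ c, θ c ∈ TT D (KK p) → θ c ∈ B) :
    Nat.card K ≤ Nat.card B * Nat.card ω.range := by
  rw [← ω.ker.card_mul_index, Subgroup.index_ker]
  refine Nat.mul_le_mul_right _ (Nat.card_le_card_of_injective (fun x : ω.ker => (⟨θ x, hB _ ?_⟩ : B)) fun x y h => ?_)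
  · have h1 := O.rp x
    rw [MonoidHom.mem_ker.1 x.2] at h1
    exact h1.mem_T
  · exact Subtype.ext (O.inj hT (congrArg Subtype.val h))

end Om

namespace TC

variable (H : TC S L e v ε g)
include H

theorem cX_σ {t : YY D p} (ht : t ∈ TT D (KK p)) (x : Fin l → ℤ) : cX hp (L.σ t) (g x) = cX hp t x ^ p ^ e :=
  cX_sigma hp M.toCoxeterSystem H.frob H.fr ht x

theorem mem_TF {t : YY D p} : t ∈ TF hp p e v ε ↔ t ∈ TT D (KK p) ∧ L.σ t = t := by
  refine and_congr_right fun ht => ?_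
  have h1 : ∀ x, cX hp t (((ε : ℤ) • rp hp v - ((p ^ e : ℕ) : ℤ) • (1 : En l)) x) = 1 ↔
      cX hp (L.σ t) (g x) = cX hp t (g x) := fun x => by
    rw [LinearMap.sub_apply, LinearMap.smul_apply, LinearMap.smul_apply, Module.End.one_apply, ← H.hg, (isMC_cX hp ht).sub,
      div_eq_one_iff_eq ((isMC_cX hp ht).ne_zero _), (isMC_cX hp ht).zsmul, zpow_natCast, H.cX_σ ht, eq_comm]
  exact ⟨fun h => cX_ext ((H.fr.tor t).2 ht) ht fun x => (h1 x).1 (h x), fun h x => (h1 x).2 (by rw [h])⟩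

theorem card_TF : Nat.card (TF hp p e v ε) =
    (LinearMap.det ((ε : ℤ) • rp hp v - ((p ^ e : ℕ) : ℤ) • (1 : En l))).natAbs := card_Kr H.typ (det_TF H.he v ε)

theorem finite_TF : Finite (TF hp p e v ε) := by
  refine Nat.finite_of_card_ne_zero ?_
  rw [H.card_TF, Int.natAbs_ne_zero]
  intro h
  exact det_TF (hp := hp) (p := p) H.he v ε (by rw [h, Int.cast_zero])

theorem card_TF_le : Nat.card (TF hp p e v ε) ≤ (p ^ e + 1) ^ l := by
  rw [H.card_TF]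
  exact H448.FprCent.natAbs_det_le (card_W_pos hp).ne' (smul_rp_pow v ε) _

theorem exists_rp {y : YY D p} {c : G} (h : IndL L y c) (hc : c ∈ S) : ∃ w, RP hp p w y :=
  rp_of_norm (H.nrm _ (h.mem_GH H.ctx.as hc))

theorem om (hK : K ≤ S) (h : ∀ c ∈ K, ∃ y, IndL L y c) : ∃ (θ : K →* YY D p) (ω : K →* M.Group), Om L θ ω :=
  exists_om H.ctx.as.normal fun c hc => by
    obtain ⟨y, hy⟩ := h c hc
    obtain ⟨w, hw⟩ := H.exists_rp hy (hK hc)
    exact ⟨y, w, hy, hw⟩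

theorem omT : ∃ (θ : ↥(S ⊓ T) →* YY D p) (ω : ↥(S ⊓ T) →* M.Group), Om L θ ω :=
  H.om inf_le_left fun c hc => ⟨_, indL_iota ⟨c, hc.2⟩⟩

theorem card_le {θ : K →* YY D p} {ω : K →* M.Group} (O : Om L θ ω) :
    Nat.card K ≤ Nat.card (TF hp p e v ε) * Nat.card ω.range := by
  have := H.finite_TF
  exact O.card_le H.ctx.as fun c hc => H.mem_TF.2 ⟨hc, (O.ind c).fix⟩

theorem card_le' {θ : K →* YY D p} {ω : K →* M.Group} (O : Om L θ ω) :
    Nat.card K ≤ Nat.card M.Group * (p ^ e + 1) ^ l := by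
  have := finW hp
  rw [mul_comm]
  exact (H.card_le O).trans (Nat.mul_le_mul H.card_TF_le (Subgroup.card_le_card_group _))

theorem comm_v {w : M.Group} {y : YY D p} (hw : RP hp p w y) (hy : L.σ y = y) : w * v = v * w := by
  refine rep_injective M.toCoxeterSystem hp.isCartan (LinearMap.ext fun a => ?_)
  have h1 := comm_of_rp H.fr hw (hy.symm ▸ hw) a
  rw [H.hg, H.hg, map_zsmul] at h1
  rw [rep_mul_apply, rep_mul_apply]
  exact (smul_right_injective _ ε.ne_zero h1).symm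

theorem inv_range : ∀ φ ∈ L.GH S, ∀ a ∈ L.ι.range, φ a ∈ L.ι.range := by
  rintro φ hφ _ ⟨x, rfl⟩
  exact ⟨_, (act' H.ctx.as.normal ⟨φ, L.GH_le S hφ⟩ x).symm⟩

theorem nm_pb {A : Subgroup (YY D p)} (hA : ∀ φ ∈ L.GH S, ∀ a ∈ A, φ a ∈ A) : Nm S (pb L A) :=
  NT.nm_of_le (norm_pb H.ctx.as.normal (L.inv_iff.2 hA))

variable (hb : Nat.card M.Group * (p ^ e + 1) ^ l < Nat.card T)
include hb

/-- **The normaliser of the torus lies in `S`.** -/
theorem mem_S {x : T} {w : M.Group} (h : RP hp p w (L.ι x)) : (x : G) ∈ S := by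
  have h1 : ∀ y : YY D p, y ∈ Subgroup.normalizer (TT D (KK p) : Set (YY D p)) ↔ ∃ w, RP hp p w y := fun y =>
    Subgroup.mem_normalizer_iff.trans ⟨fun h => rp_of_norm fun t => (h t).symm, fun ⟨_, h⟩ t => (h.conj_iff t).symm⟩
  refine H.ctx.max.le_of_inv H.ctx.as (pb_le (L := L) (Subgroup.normalizer (TT D (KK p) : Set (YY D p)))) (fun e => ?_)
    (H.nm_pb fun φ hφ a ha => ?_) (coe_mem_pb.2 ((h1 _).2 ⟨w, h⟩))
  · obtain ⟨θ, ω, O⟩ := exists_om (L := L) (K := T) H.ctx.as.normal fun c hc => by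
      obtain ⟨w, hw⟩ := (h1 _).1 ((coe_mem_pb (x := ⟨c, hc⟩)).1 (e.ge hc))
      exact ⟨_, w, indL_iota ⟨c, hc⟩, hw⟩
    exact absurd (H.card_le' O) hb.not_ge
  · obtain ⟨w, hw⟩ := (h1 _).1 ha
    exact (h1 _).2 (rp_map (H.nrm φ hφ) hw)

omit hb in
theorem exists_fix (hv : rp hp v = 1 ∨ rp hp v = -1) (w : M.Group) : ∃ y, RP hp p w y ∧ L.σ y = y := by
  obtain ⟨k, hk⟩ := exists_RP hp p w
  have hq : 1 < p ^ e := Nat.one_lt_pow H.he.ne' (Fact.out : p.Prime).one_lt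
  have hg : (∀ a, g a = a) ∨ ∀ a, g a = -a := by
    rcases hv with h | h <;> rcases Int.units_eq_one_or ε with h1 | h1
    · exact Or.inl fun a => by rw [H.hg, h, h1]; simp
    · exact Or.inr fun a => by rw [H.hg, h, h1]; simp
    · exact Or.inr fun a => by rw [H.hg, h, h1]; simp
    · exact Or.inl fun a => by rw [H.hg, h, h1]; simp
  have ht : k⁻¹ * L.σ k ∈ TT D (KK p) := rp_T hk (rp_fr H.fr hk fun a => by
    rcases hg with h | h
    · rw [h, h]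
    · rw [h, h, map_neg])
  suffices h : ∃ s ∈ TT D (KK p), k⁻¹ * L.σ k * L.σ s = s by
    obtain ⟨s, hs, h⟩ := h
    refine ⟨k * s, by simpa using hk.mul (RP.of_mem hs), ?_⟩
    rw [map_mul]
    calc L.σ k * L.σ s = k * (k⁻¹ * L.σ k * L.σ s) := by group
      _ = _ := by rw [h]
  rcases hg with h | h
  · obtain ⟨s, hs, h1⟩ := exists_root_T hp H.typ ht (Nat.sub_pos_of_lt hq)
    have h2 : L.σ s = s ^ p ^ e := cX_ext (g := g) ((H.fr.tor s).2 hs) (pow_mem hs _) fun x => by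
      rw [H.cX_σ hs, h, cX_pow hp hs]
    refine ⟨s⁻¹, inv_mem hs, ?_⟩
    rw [← h1, map_inv, h2, mul_inv_eq_iff_eq_mul, eq_inv_mul_iff_mul_eq, ← pow_succ', Nat.sub_add_cancel hq.le]
  · obtain ⟨s, hs, h1⟩ := exists_root_T hp H.typ ht (Nat.succ_pos (p ^ e))
    have h2 : s ^ p ^ e * L.σ s = 1 := cX_ext (g := g) (mul_mem (pow_mem hs _) ((H.fr.tor s).2 hs)) (one_mem _) fun x => by
      rw [cX_mul hp (pow_mem hs _) ((H.fr.tor s).2 hs), H.cX_σ hs, h, cX_pow hp hs, cX_one, ← mul_pow, mul_comm,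
        (isMC_cX hp hs).neg_mul, one_pow]
    refine ⟨s, hs, ?_⟩
    rw [← h1, pow_succ', mul_assoc, h2, mul_one]

/-- **If `σ` acts on the roots as `± 1` then `W` is solvable.** -/
theorem solv (hv : rp hp v = 1 ∨ rp hp v = -1) : Group.IsSolvable M.Group := by
  have := finW hp
  obtain ⟨θ, ω, O⟩ := H.omT
  have h1 : ∀ (w : M.Group) (x : T), RP hp p w (L.ι x) → w ∈ ω.range := fun w x h =>
    ⟨⟨x, H.mem_S hb h, x.2⟩, (O.rp _).unique (by rwa [O.eq_iota H.ctx.as _ x.2])⟩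
  have h2 : ω.range.Normal := ⟨by
    rintro _ ⟨c, rfl⟩ w
    obtain ⟨y, hy, hy'⟩ := H.exists_fix hv w
    obtain ⟨x', hx'⟩ := L.norm y hy' ⟨c, c.2.2⟩
    refine h1 _ x' ?_
    rw [hx', ← O.eq_iota H.ctx.as c c.2.2]
    exact (hy.mul (O.rp c)).mul hy.inv⟩
  obtain ⟨r, n, hr, hn⟩ : ∃ r n : ℕ, r.Prime ∧ L.dd = r ^ n := by
    rcases L.hdd with h | ⟨-, h⟩ | ⟨-, h⟩
    · exact ⟨2, 0, Nat.prime_two, h⟩
    · exact ⟨3, 1, Nat.prime_three, h⟩
    · exact ⟨2, 1, Nat.prime_two, h⟩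
  have := Fact.mk hr
  have h3 : IsPGroup r (M.Group ⧸ ω.range) := fun x => by
    obtain ⟨w, rfl⟩ := QuotientGroup.mk_surjective x
    obtain ⟨y, hy, hy'⟩ := H.exists_fix hv w
    obtain ⟨x', hx'⟩ := L.pow_dd y hy'
    refine ⟨n, ?_⟩
    rw [← QuotientGroup.mk_pow, QuotientGroup.eq_one_iff, ← hn]
    exact h1 _ x' (hx' ▸ hy.pow _)
  have := h3.isNilpotent
  have := solvable_inf H.ctx.solv T
  exact (Group.isSolvable_iff_subgroup_quotient ω.range).2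
    ⟨Group.isSolvable_of_surjective ω.rangeRestrict_surjective, inferInstance⟩

/-- **The Fitting subgroup**, if `T` contains an element of order `r` of the torus. -/
theorem fit_pow {x : T} (hx1 : x ≠ 1) (hx : L.ι x ∈ TT D (KK p)) {r : ℕ} (hr : r.Prime) (hxr : x ^ r = 1) {c : G}
    (hc : c ∈ fit S) {y : YY D p} (hy : IndL L y c) {w : M.Group} (hw : RP hp p w y) : ∃ n : ℕ, w ^ r ^ n = 1 := by
  have := Fact.mk hr
  have hI : ∀ φ ∈ L.GH S, ∀ a ∈ tors hp p r ⊓ L.ι.range, φ a ∈ tors hp p r ⊓ L.ι.range :=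
    fun φ hφ a ha => ⟨H.inv_tors r φ hφ a ha.1, H.inv_range φ hφ a ha.2⟩
  have hr1 : ∀ u ∈ pb L (tors hp p r ⊓ L.ι.range), u ^ r = 1 := fun u hu => by
    obtain ⟨h1, h2⟩ := mem_pb.1 hu
    exact congrArg Subtype.val (L.inj (a₁ := ⟨u, h1⟩ ^ r) (a₂ := 1) (by rw [map_pow, h2.1.2, map_one]))
  have hF : pb L (tors hp p r ⊓ L.ι.range) ≤ fit S := R1.le_fit (p := r) (fun u hu => by
    obtain ⟨h1, h2⟩ := mem_pb.1 hu
    exact H.mem_S hb (x := ⟨u, h1⟩) (RP.of_mem h2.1.1)) (fun u => ⟨1, Subtype.ext (by rw [pow_one]; exact hr1 u u.2)⟩)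
    (H.nm_pb hI)
  obtain ⟨a, m, hm, ham⟩ := Nat.exists_eq_pow_mul_and_not_dvd (orderOf_pos c).ne' r hr.ne_one
  obtain ⟨n, hn⟩ := H.cent hr inf_le_left (fun e => hx1 (L.inj (by
    rw [map_one, ← Subgroup.mem_bot, ← e]
    exact ⟨⟨hx, by rw [← map_pow, hxr, map_one]⟩, x, rfl⟩))) hI (hw.pow (r ^ a)) (by
      rintro _ ⟨h1, u, rfl⟩
      have h2 : (u : G) ∈ pb L (tors hp p r ⊓ L.ι.range) := coe_mem_pb.2 ⟨h1, u, rfl⟩
      refine (hy.pow H.ctx.as.normal _).comm (R1.fit_commute (pow_mem hc _) (hF h2) ?_)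
      refine Nat.Coprime.coprime_dvd_left (orderOf_dvd_of_pow_eq_one (n := m) ?_)
        (Nat.Coprime.coprime_dvd_right (orderOf_dvd_of_pow_eq_one (hr1 _ h2)) ((hr.coprime_iff_not_dvd.2 hm).symm))
      rw [← pow_mul, ← ham, pow_orderOf_eq_one])
  exact ⟨a + n, by rw [pow_add, pow_mul, hn]⟩

theorem pgroup {x : T} (hx1 : x ≠ 1) (hx : L.ι x ∈ TT D (KK p)) {r : ℕ} (hr : r.Prime) (hxr : x ^ r = 1) (hK : K ≤ fit S)
    {θ : K →* YY D p} {ω : K →* M.Group} (O : Om L θ ω) : IsPGroup r ω.range := by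
  rintro ⟨_, c, rfl⟩
  obtain ⟨n, hn⟩ := H.fit_pow hb hx1 hx hr hxr (hK c.2) (O.ind c) (O.rp c)
  exact ⟨n, Subtype.ext hn⟩

end TC

end Cfsg.Agent.SB.Exc.Tor
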