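import Cfsg.Agent.SB.Exc.Tor.Lat
import Cfsg.Agent.H893.Tor.StabMod
import Cfsg.Agent.Nodes.RGDChev

/-!
# S5765, exceptional groups, toral case: the centralizer of an element `u` with `1 + u + u² = 0` in `E₆` (helper64)

* `card_le_1296` : a group of isometries of the root system commuting with `u` has order at most `72 * 9 * 2`.
-/

set_option autoImplicit false

namespace Cfsg.Agent.SB.Exc.Tor

open Cfsg.Lie Cfsg.Agent.ChevalleyStructure.CoxeterGeom Cfsg.Agent.ChevalleyStructure.CoxeterGeomTypes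
  Cfsg.Agent.Nodes.RGDChev Cfsg.Agent.H893.Tor Cfsg.Agent.ChevalleyStructure.RootVecTab
  Cfsg.Agent.ChevalleyStructure.RootVec Cfsg.Agent.Nodes.KindChev

theorem card_le_orbit {K X : Type*} [Group K] [Finite K] [MulAction K X] (x : X) (s : Finset ℕ) (f : ℕ → X)
    (h : ∀ k : K, ∃ r ∈ s, f r = k • x) : Nat.card K ≤ s.card * Nat.card (MulAction.stabilizer K x) := by
  classical
  rw [← (MulAction.stabilizer K x).index_mul_card, MulAction.index_stabilizer]
  refine Nat.mul_le_mul_right _ ?_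
  calc (MulAction.orbit K x).ncard ≤ ((s.image f : Finset X) : Set X).ncard :=
        Set.ncard_le_ncard (by
          rintro _ ⟨k, rfl⟩
          obtain ⟨r, hr, e⟩ := h k
          exact Finset.mem_coe.2 (Finset.mem_image.2 ⟨r, hr, e⟩)) (Finset.finite_toSet _)
    _ ≤ s.card := by rw [Set.ncard_coe_finset]; exact Finset.card_image_le

/-- the Cartan matrix -/
abbrev A6 : Fin 6 → Fin 6 → ℤ := cartanOf chevE6 6

theorem A6_eq : A6 = ![![2, 0, -1, 0, 0, 0], ![0, 2, 0, -1, 0, 0], ![-1, 0, 2, -1, 0, 0], ![0, -1, -1, 2, -1, 0],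
    ![0, 0, 0, -1, 2, -1], ![0, 0, 0, 0, -1, 2]] := by decide +kernel

theorem A6_symm : ∀ i j, A6 i j = A6 j i := by rw [A6_eq]; decide

/-- the form, explicitly -/
def bE (x y : ℕ → ℤ) : ℤ := (2 * x 0 - x 2) * y 0 + (2 * x 1 - x 3) * y 1 + (2 * x 2 - x 0 - x 3) * y 2 +
  (2 * x 3 - x 1 - x 2 - x 4) * y 3 + (2 * x 4 - x 3 - x 5) * y 4 + (2 * x 5 - x 4) * y 5

theorem bf_bE (x y : ℕ → ℤ) : bf A6 (fun i => x i) (fun i => y i) = bE x y := by
  rw [A6_eq]
  simp [bf, qf, pairing, bE, Fin.sum_univ_six]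
  ring

/-- the table of the inner products plus two -/
def gT : ℕ := 0x8db6db6da4926db6db6d249249249249248924924949244924924871b6db4936d26da49245b69b69249125125a4924494892922492416e36d26d369a69369229b4d22da44b48a2534912914512894892096dc69a69b4da4d34d149a6d148b2d268945268a28a44a2514510496db8934da6da49a6ca4936ca45169a4c92924c945244944a2902496da51b6d369369245b49225b4da44a25b49225a4912912892424496d34e369b4d34d229a69145a68b2d145a69145348a28a25120a2896d26dc4da6d349949368a45365169929a4d129265228944a04948969b4da8db49b48b49a4d12912d328b69368a4522d225224844a25169a6d371a69b4526934ca28a2996534d34ca29149a25144128945169369b6e24db2924d26c948944a4da6d26c948a49324a4092512914db4da6946db48a25125a49a4d328a45245b69b4d224909144a24a4da6d34d38db45144a25349349965229229b4da69a24828a28944a4d369b49b71b29128945269264a4d949149a6d369324125225128a49b6926db6e324a4892924c92924936ca4936d24db2092494912524924db6db6dc24925248925249249249b6d249b6db04924924a4926da4d248a4498db69b49b49b4da44a2522522512486da4d2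48a4496d349a45228971b4da69a69a68b2d145145144a2416d349a4522896d26932914896e26d36936936516992912912894096d269329148969b4916922516d46da4da4d12d328b68a44a44908969b49169225169a68a4d145169b8d34d34ca2996534ca28a28825169a68a4d14516936524992914db7126d26c944a4da6c948948124a6936524992916922da69224a6d34a36d125a4d328a45b6892122894db49144b4916914d34d144a69a69c6ca25349965229b4c90514514da68a28a69168a49b49928a4da4db8c945264a4d949a6c824a44a4d36522524d16524926d92524936db7092892924936d36c124929249b6494924994db49144b4916d34912636da4d328a44921b6922896922da69224a4da68a28a69169a68a25c6d349965228905b4d14516914d34d144a4d36522524d14da4c945b8d264a4d948825a6ca44a68a49b49928a49b6494924994936c929b7092924936c12536c92926524926d92524d22da44b48a6d225a45a4636d328921a45a45b4894d22da44b48a4d14d328a68a69945345345c69965105a29a29a6514d14d328a68a4ca49b2524ca4d929265265b84a4d825949949364a4ca49b2524ca49a2d168b45268b45a29a29a31b24345345345a2d149a2d168b4524994ca4ca6526526532932932e160b2932932994994994ca4ca6524932996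532924cb2994994994cc0ca6526526532ca49329965329249168b2d169245968b48b48b45885a2d22d22d165a49168b2d169248b45a45a2d22d22d169169164331969169168b48b48b45a45a2d248a6532994d22994ca68a68a6096e14d14d14ca65348a6532994d245a4896d245a44b6922d22c90da44c6cb48b4912da45a4896d245a45345169a29a28b4d14d14c828b2d38ca68a68a2d345345169a29a45264a4d949a2526ca4ca4c125169b70a4ca4c949b45264a4d949a4892db49248b49125b68921b6924912636d125b6922d249224b6d24512d26d245344a45b4c90522da44b49c6ca25a4da29a48948b69a44a29a69a29328a29a6c825148b2d269b8c94534d32934514534da4494934d94932514936c124a45169a4db70929269b29264a2926da2d249224b6d249124921b69b6924912512636db6924892db49248b29a48948b69a44a44905b4d22da44b48a25c6da4da4512d26d24532934514534da28a28825a6d148b2d268945b8d34d344a29a69a29329264a2926da2514812536ca45169a4c929b71269b4494934d94932912d248b69344921225225b4da44a25b49b4a36da2912d248b69328a29a4534d328905145145a68b2d145a69a69c6d328a29a4534d32894932926d325024a44a45365169929a4da4db89b2894932926d325229169349b24225129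12912d328b69369369b51b25229169349b25148a4d269b20944a28a28a2996534d34d34da6e325148a4d269b24a45249a4db04928948948944a4da6d26d26d36dc24a45249a4db4924492492486db6d249b6d24924924892524892498db6db6da4924892922492416da49b69245b69249125a49125244971b6db4936d245128948920969369b4d22922da44b49348a2512916e36d26d369a44a2514510494d34da6d149148b2d269268944a28a6dc69a69b4da44944a29024949a6d36ca48a45169a4d24c92894526db8934da6da29128924244969245225b49b4da44a25225b49a4916da51b6d369328a25120a2894d229145a69a68b2d145145a69348a6d34e369b4d328944a04948949948a45369365169929129a4d26526d26dc4da6d325224844a25148b49129a4d12d328b68a4536922d269b4da8db49b25144128945145268a2934ca2996534ca2934d149a69a6d371a69b24a4092512912924c94926c944a4da6c94926ca49369369b6e24db24909144a24a48a25a49125a4d328a45b69245b4d24db4da6946db24828a28944a45145348a25349965229b4d229a69a4da6d34d38db24125225128a29129268945264a4d949a6d14936934d369b49b71b20924949125224a4924c92892924936d36ca4924db49b6926db6e304924924a49224924925249249249249249b6db6db4924db6db6dc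

/-- the inner product of two roots plus two -/
def gm (r s : ℕ) : ℕ := Nat.mod (Nat.shiftRight gT (3 * (72 * r + s))) 8

theorem gm_chk : allLT (fun r => allLT (fun s => decide (bE (rt chevE6 r) (rt chevE6 s) = (gm r s : ℤ) - 2)) 72) 72 =
    true := by decide +kernel

theorem gm_eq {r s : ℕ} (hr : r < 72) (hs : s < 72) {c : ℕ} :
    gm r s = c ↔ bf A6 (vec chevE6 6 r) (vec chevE6 6 s) = (c : ℤ) - 2 := by
  have h1 := of_decide_eq_true ((allLT_iff _ _).1 ((allLT_iff _ _).1 gm_chk r hr) s hs)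
  have h2 : bf A6 (vec chevE6 6 r) (vec chevE6 6 s) = bE (rt chevE6 r) (rt chevE6 s) := bf_bE _ _
  rw [h2, h1]
  omega

/-- the candidates for the second root -/
def sB (a' : ℕ) : Finset ℕ := (Finset.range 72).filter fun b => gm b 56 = 3 ∧ gm b a' = 2

/-- the candidates for the third root -/
def sC (a' b b' : ℕ) : Finset ℕ :=
  (Finset.range 72).filter fun c => gm c b' = 3 ∧ gm c 56 = 2 ∧ gm c a' = 2 ∧ gm c b = 2

theorem cnt_chk : allLT (fun a' => !(Nat.beq (gm 56 a') 1) || (Nat.beq (sB a').card 9 &&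
    allLT (fun b => !(Nat.beq (gm b 56) 3 && Nat.beq (gm b a') 2) ||
      allLT (fun b' => !(Nat.beq (gm b' 56) 1 && (Nat.beq (gm b' a') 3 && Nat.beq (gm b' b) 1)) ||
        Nat.beq (sC a' b b').card 2) 72) 72)) 72 = true := by decide +kernel

theorem cnt_B {a' : ℕ} (ha : a' < 72) (h : gm 56 a' = 1) : (sB a').card = 9 := by
  have h1 := (allLT_iff _ _).1 cnt_chk a' ha
  simp only [Bool.or_eq_true, Bool.not_eq_true', Bool.and_eq_true, beq_iff, h, Nat.beq_refl, Bool.true_eq_false,
    false_or] at h1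
  exact h1.1

theorem cnt_C {a' b b' : ℕ} (ha : a' < 72) (hb : b < 72) (hb' : b' < 72) (h : gm 56 a' = 1) (h1 : gm b 56 = 3)
    (h2 : gm b a' = 2) (h3 : gm b' 56 = 1) (h4 : gm b' a' = 3) (h5 : gm b' b = 1) : (sC a' b b').card = 2 := by
  have e1 := (allLT_iff _ _).1 cnt_chk a' ha
  simp only [Bool.or_eq_true, Bool.not_eq_true', Bool.and_eq_true, h, Nat.beq_refl, Bool.true_eq_false,
    false_or] at e1
  have e2 := (allLT_iff _ _).1 e1.2 b hb
  simp only [Bool.or_eq_true, Bool.not_eq_true', h1, h2, Nat.beq_refl, Bool.and_self, Bool.true_eq_false,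
    false_or] at e2
  have e3 := (allLT_iff _ _).1 e2 b' hb'
  simp only [Bool.or_eq_true, Bool.not_eq_true', h3, h4, h5, Nat.beq_refl, Bool.and_self, Bool.true_eq_false,
    false_or, beq_iff] at e3
  exact e3

/-- the roots -/
def R6 (x : Fin 6 → ℤ) : Prop := ∃ r < 72, vec chevE6 6 r = x

theorem bf_mat (x y : Fin 6 → ℤ) : bf A6 x y = y ⬝ᵥ (Matrix.of A6).mulVec x := by
  simp only [bf, qf, pairing, dotProduct, Matrix.mulVec, Matrix.of_apply, one_mul]
  exact Finset.sum_congr rfl fun i _ => mul_comm _ _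

/-- six vectors with a non-degenerate Gram matrix -/
theorem eq_one_of_gram {f : En 6} (x : Fin 6 → Fin 6 → ℤ) (hx : ∀ i, f (x i) = x i)
    (hG : (Matrix.of fun i j => bf A6 (x i) (x j)).det ≠ 0) : f = 1 := by
  classical
  have h1 : (Matrix.of fun i j => bf A6 (x i) (x j)) = (Matrix.of x * (Matrix.of A6 * (Matrix.of x).transpose)).transpose := by
    ext i j
    rw [Matrix.of_apply, bf_mat, Matrix.transpose_apply, Matrix.mul_apply]
    rfl
  have h2 : (Matrix.of x).transpose.det ≠ 0 := by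
    intro h
    rw [h1, Matrix.det_transpose, Matrix.det_mul, Matrix.det_mul, h, mul_zero, mul_zero] at hG
    exact hG rfl
  have h3 : (LinearMap.toMatrix' f - 1) * (Matrix.of x).transpose = 0 := by
    ext i j
    have h4 := congrFun (hx j) i
    rw [← LinearMap.toMatrix'_mulVec] at h4
    rw [Matrix.sub_mul, Matrix.one_mul, Matrix.sub_apply, Matrix.zero_apply, sub_eq_zero]
    exact h4
  have h4 := congrArg (· * (Matrix.of x).transpose.adjugate) h3
  simp only [Matrix.mul_assoc, Matrix.mul_adjugate, Matrix.zero_mul, Matrix.mul_smul, Matrix.mul_one, smul_eq_zero] at h4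
  have h5 := sub_eq_zero.1 (h4.resolve_left h2)
  apply LinearMap.toMatrix'.injective
  rw [h5]
  exact LinearMap.toMatrix'_one.symm

theorem card_le_1296 {K : Type*} [Group K] [Finite K] (ρ : K →* En 6) (hρ : ∀ k, ρ k = 1 → k = 1)
    (hR : ∀ k x, R6 x → R6 (ρ k x)) (hB : ∀ k x y, bf A6 (ρ k x) (ρ k y) = bf A6 x y) {u : En 6}
    (hu : ∑ i ∈ Finset.range 3, u ^ i = 0) (huR : ∀ x, R6 x → R6 (u x))
    (huB : ∀ x y, bf A6 (u x) (u y) = bf A6 x y) (hc : ∀ k x, ρ k (u x) = u (ρ k x)) : Nat.card K ≤ 1296 := by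
  let _ : MulAction K (Fin 6 → ℤ) := MulAction.compHom _ ρ
  have hs : ∀ (k : K) (x : Fin 6 → ℤ), k • x = ρ k x := fun _ _ => rfl
  have h0 : ∀ x, u (u x) = (-1 : ℤ) • (x + u x) := fun x => by
    have h1 := LinearMap.congr_fun hu x
    simp only [Finset.sum_range_succ, Finset.range_zero, Finset.sum_empty, zero_add, pow_zero, pow_one, pow_two,
      LinearMap.add_apply, Module.End.one_apply, Module.End.mul_apply, LinearMap.zero_apply] at h1
    rw [neg_one_smul, eq_neg_iff_add_eq_zero, add_comm, h1]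
  have h1 : ∀ x y, bf A6 (u x) y = -bf A6 x y - bf A6 x (u y) := fun x y => by
    rw [← huB, h0, bf_smul_left, bf_add_left, huB]
    ring
  have h2 : ∀ r < 72, bf A6 (vec chevE6 6 r) (vec chevE6 6 r) = 2 := fun r hr => by
    have key : ∀ r < 72, gm r r = 4 := by decide +kernel
    exact (gm_eq hr hr).1 (key r hr)
  have h3 : ∀ r < 72, bf A6 (vec chevE6 6 r) (u (vec chevE6 6 r)) = -1 := fun r hr => by
    have e1 := h1 (vec chevE6 6 r) (vec chevE6 6 r)
    rw [bf_comm A6_symm, h2 r hr] at e1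
    omega
  have h56 : 56 < 72 := by norm_num
  obtain ⟨a', ha', ea⟩ := huR _ ⟨56, h56, rfl⟩
  have g1 : gm 56 a' = 1 := (gm_eq h56 ha').2 (by rw [ea, h3 56 h56]; rfl)
  obtain ⟨b, hb⟩ : (sB a').Nonempty := Finset.card_pos.1 (by rw [cnt_B ha' g1]; norm_num)
  obtain ⟨hb, g2, g3⟩ := Finset.mem_filter.1 hb
  rw [Finset.mem_range] at hb
  obtain ⟨b', hb', eb⟩ := huR _ ⟨b, hb, rfl⟩
  have f2 := (gm_eq hb h56).1 g2
  have f3 := (gm_eq hb ha').1 g3
  have g4 : gm b' 56 = 1 := (gm_eq hb' h56).2 (by rw [eb, h1, ← ea, f2, f3]; rfl)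
  have g5 : gm b' a' = 3 := (gm_eq hb' ha').2 (by rw [eb, ea, huB, f2])
  have g6 : gm b' b = 1 := (gm_eq hb' hb).2 (by rw [bf_comm A6_symm, eb, h3 b hb]; rfl)
  have hC := cnt_C ha' hb hb' g1 g2 g3 g4 g5 g6
  obtain ⟨c, hc'⟩ : (sC a' b b').Nonempty := Finset.card_pos.1 (by rw [hC]; norm_num)
  obtain ⟨hc', g7, g8, g9, g10⟩ := Finset.mem_filter.1 hc'
  rw [Finset.mem_range] at hc'
  have f7 := (gm_eq hc' hb').1 g7
  have f8 := (gm_eq hc' h56).1 g8
  have f9 := (gm_eq hc' ha').1 g9
  have f10 := (gm_eq hc' hb).1 g10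
  have fx : ∀ (k : K) x, k • x = x → ρ k (u x) = u x := fun k x h => by rw [hc, ← hs, h]
  have key : ∀ (k : K) {x y : Fin 6 → ℤ}, ρ k y = y → bf A6 (ρ k x) y = bf A6 x y := fun k x y h => by
    conv_lhs => rw [← h]
    exact hB k x y
  have s1 := card_le_orbit (K := K) (vec chevE6 6 56) (Finset.range 72) (vec chevE6 6) fun k => by
    obtain ⟨r, hr, e⟩ := hR k _ ⟨56, h56, rfl⟩
    exact ⟨r, Finset.mem_range.2 hr, e⟩
  have s2 := card_le_orbit (K := MulAction.stabilizer K (vec chevE6 6 56)) (vec chevE6 6 b) (sB a') (vec chevE6 6)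
    fun k => by
    obtain ⟨r, hr, e⟩ := hR k _ ⟨b, hb, rfl⟩
    refine ⟨r, Finset.mem_filter.2 ⟨Finset.mem_range.2 hr, (gm_eq hr h56).2 ?_, (gm_eq hr ha').2 ?_⟩, e⟩
    · rw [e, key k.1 k.2, f2]
    · rw [e, key k.1 (by rw [ea]; exact fx k.1 _ k.2), f3]
  have s3 := card_le_orbit (K := MulAction.stabilizer (MulAction.stabilizer K (vec chevE6 6 56)) (vec chevE6 6 b))
    (vec chevE6 6 c) (sC a' b b') (vec chevE6 6) fun k => by
    obtain ⟨r, hr, e⟩ := hR k.1 _ ⟨c, hc', rfl⟩
    refine ⟨r, Finset.mem_filter.2 ⟨Finset.mem_range.2 hr, (gm_eq hr hb').2 ?_, (gm_eq hr h56).2 ?_,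
      (gm_eq hr ha').2 ?_, (gm_eq hr hb).2 ?_⟩, e⟩
    · rw [e, key k.1.1 (by rw [eb]; exact fx k.1.1 _ k.2), f7]
    · rw [e, key k.1.1 k.1.2, f8]
    · rw [e, key k.1.1 (by rw [ea]; exact fx k.1.1 _ k.1.2), f9]
    · rw [e, key k.1.1 k.2, f10]
  have s4 : Nat.card (MulAction.stabilizer (MulAction.stabilizer (MulAction.stabilizer K (vec chevE6 6 56))
      (vec chevE6 6 b)) (vec chevE6 6 c)) = 1 := by
    rw [Subgroup.card_eq_one, eq_bot_iff]
    intro k hk
    refine Subgroup.mem_bot.2 (Subtype.ext (Subtype.ext (hρ _ ?_)))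
    rw [ea] at f3 f9
    rw [eb] at f7
    refine eq_one_of_gram ![vec chevE6 6 56, u (vec chevE6 6 56), vec chevE6 6 b, u (vec chevE6 6 b), vec chevE6 6 c,
      u (vec chevE6 6 c)] (fun i => ?_) ?_
    · fin_cases i
      exacts [k.1.2, fx _ _ k.1.2, k.2, fx _ _ k.2, hk, fx _ _ hk]
    · have t1 := h2 56 h56
      have t2 := h2 b hb
      have t3 := h2 c hc'
      have t4 := h3 56 h56
      have t5 := h3 b hb
      have t6 := h3 c hc'
      generalize vec chevE6 6 56 = a at *
      generalize vec chevE6 6 b = b at *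
      generalize vec chevE6 6 c = c at *
      have u1 : bf A6 a b = 1 := by rw [bf_comm A6_symm, f2]; rfl
      have u2 : bf A6 a c = 0 := by rw [bf_comm A6_symm, f8]; rfl
      have u3 : bf A6 b c = 0 := by rw [bf_comm A6_symm, f10]; rfl
      have u4 : bf A6 a (u b) = -1 := by rw [bf_comm A6_symm, h1, f2, f3]; rfl
      have u5 : bf A6 a (u c) = 0 := by rw [bf_comm A6_symm, h1, f8, f9]; rfl
      have u6 : bf A6 b (u c) = -1 := by rw [bf_comm A6_symm, h1, f10, f7]; rfl
      have e : (Matrix.of fun i j => bf A6 (![a, u a, b, u b, c, u c] i) (![a, u a, b, u b, c, u c] j)) =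
          !![2, -1, 1, -1, 0, 0; -1, 2, 0, 1, 0, 0; 1, 0, 2, -1, 0, -1; -1, 1, -1, 2, 1, 0; 0, 0, 0, 1, 2, -1;
            0, 0, -1, 0, -1, 2] := by
        ext i j
        fin_cases i <;> fin_cases j <;> first
          | (simp [huB, t1, t2, t3, t4, t5, t6, u1, u2, u3, u4, u5, u6, f2, f3, f7, f8, f9, f10]; done)
          | simp [h1, t1, t2, t3, t4, t5, t6, u1, u2, u3, u4, u5, u6, f2, f3, f7, f8, f9, f10]
      rw [e]
      decide +kernel
  rw [Finset.card_range] at s1
  rw [cnt_B ha' g1] at s2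
  rw [hC, s4] at s3
  omega

end Cfsg.Agent.SB.Exc.Tor
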