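import Mathlib

/-!
# S5765, exceptional groups, toral case: lattice lemmas (helper64)

* `Ell u` : `u` has no non-zero fixed vector; `Ell.sum`;
* `no_div` : `c Q ⊆ (g - q) Q` is impossible for `g` of finite order and `c + 1 < q`;
* `det_rel`, `not_five`, `det_nine`, `det_three` : determinants in rank six;
* `not_ell_odd` : an isometry of determinant one in odd rank has a fixed vector.
-/

set_option autoImplicit false

namespace Cfsg.Agent.SB.Exc.Tor

open Polynomial

/-- endomorphisms of the lattice -/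
abbrev En (l : ℕ) : Type := Module.End ℤ (Fin l → ℤ)

variable {l : ℕ}

/-- no non-zero fixed vector -/
def Ell (u : En l) : Prop := ∀ x, u x = x → x = 0

theorem Ell.sum {u : En l} (h : Ell u) {n : ℕ} (hn : u ^ n = 1) : ∑ i ∈ Finset.range n, u ^ i = 0 := by
  refine LinearMap.ext fun x => h _ ?_
  have h1 := LinearMap.congr_fun (mul_geom_sum u n) x
  rw [hn, sub_self, Module.End.mul_apply, LinearMap.sub_apply, Module.End.one_apply, LinearMap.zero_apply,
    sub_eq_zero] at h1
  exact h1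

theorem apply_sum {u : En l} {n : ℕ} (hn : u ^ n = 1) (x : Fin l → ℤ) :
    (∑ i ∈ Finset.range n, u ^ i) (u x) = (∑ i ∈ Finset.range n, u ^ i) x := by
  have h1 := LinearMap.congr_fun (geom_sum_mul u n) x
  rw [hn, sub_self, Module.End.mul_apply, LinearMap.sub_apply, Module.End.one_apply, LinearMap.zero_apply, map_sub,
    sub_eq_zero] at h1
  exact h1

theorem sum_fix {u : En l} {x : Fin l → ℤ} (hx : u x = x) (n : ℕ) : (∑ i ∈ Finset.range n, u ^ i) x = (n : ℤ) • x := by
  induction n with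
  | zero => simp
  | succ n ih =>
    have h1 : ∀ j : ℕ, (u ^ j) x = x := fun j => by
      induction j with
      | zero => rfl
      | succ j ihj => rw [pow_succ, Module.End.mul_apply, hx, ihj]
    rw [Finset.sum_range_succ, LinearMap.add_apply, ih, h1, Nat.cast_succ, add_smul, one_smul]

/-- an invariant norm -/
theorem no_div (hl : 0 < l) {g : En l} {n : ℕ} (hn : 0 < n) (hg : g ^ n = 1) {q c : ℕ} (hc : c ≠ 0) (h : c + 1 < q)
    (H : ∀ x, ∃ y, g y - (q : ℤ) • y = (c : ℤ) • x) : False := by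
  classical
  let a : (Fin l → ℤ) → ℕ := fun x => ∑ j, (x j).natAbs
  let ν : (Fin l → ℤ) → ℕ := fun x => ∑ i ∈ Finset.range n, a ((g ^ i) x)
  have h1 : ∀ x, ν (g x) = ν x := fun x => by
    have e1 := Finset.sum_range_succ (fun i => a ((g ^ i) x)) n
    have e2 := Finset.sum_range_succ' (fun i => a ((g ^ i) x)) n
    rw [hg] at e1
    rw [pow_zero] at e2
    have e3 : ν (g x) = ∑ i ∈ Finset.range n, a ((g ^ (i + 1)) x) :=
      Finset.sum_congr rfl fun i _ => by rw [pow_succ, Module.End.mul_apply]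
    rw [e3]
    change _ = ∑ i ∈ Finset.range n, a ((g ^ i) x)
    omega
  have h2 : ∀ (m : ℕ) x, ν ((m : ℤ) • x) = m * ν x := fun m x => by
    simp only [ν, a, map_smul, Pi.smul_apply, smul_eq_mul, Int.natAbs_mul, Int.natAbs_natCast, Finset.mul_sum]
  have h3 : ∀ x y, ν (x - y) ≤ ν x + ν y := fun x y => by
    simp only [ν, a, map_sub, Pi.sub_apply, ← Finset.sum_add_distrib]
    exact Finset.sum_le_sum fun i _ => Finset.sum_le_sum fun j _ => Int.natAbs_sub_le _ _
  have h4 : ∀ x, x ≠ 0 → 0 < ν x := fun x hx => by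
    obtain ⟨j, hj⟩ := Function.ne_iff.1 hx
    refine Finset.sum_pos' (fun _ _ => Nat.zero_le _) ⟨0, Finset.mem_range.2 hn, ?_⟩
    exact Finset.sum_pos' (fun _ _ => Nat.zero_le _) ⟨j, Finset.mem_univ _, Int.natAbs_pos.2 hj⟩
  have hex : ∃ m, ∃ x : Fin l → ℤ, x ≠ 0 ∧ ν x = m :=
    ⟨_, fun _ => 1, fun e => one_ne_zero (congrFun e ⟨0, hl⟩), rfl⟩
  obtain ⟨x, hx, hm⟩ := Nat.find_spec hex
  obtain ⟨y, hy⟩ := H x
  have hy0 : y ≠ 0 := by
    rintro rfl
    rw [map_zero, smul_zero, sub_zero, eq_comm, smul_eq_zero] at hy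
    exact hy.elim (fun e => hc (by exact_mod_cast e)) hx
  have h5 : ν x ≤ ν y := hm ▸ Nat.find_min' hex ⟨y, hy0, rfl⟩
  have h6 := h3 (g y) ((c : ℤ) • x)
  rw [show g y - (c : ℤ) • x = (q : ℤ) • y by rw [← hy, sub_sub_cancel], h2, h2, h1] at h6
  have h7 := h4 x hx
  nlinarith

theorem det_rel {u : En l} {P a e e' c d : ℤ[X]} {k : ℤ} {m : ℕ} (hP : aeval u P = 0)
    (h1 : a ^ m = C k * e + P * c) (h2 : e * e' = 1 + P * d) :
    (LinearMap.det (aeval u a)).natAbs ^ m = k.natAbs ^ l := by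
  have e1 := congrArg (fun f => LinearMap.det (aeval u f)) h1
  have e2 := congrArg (fun f => (LinearMap.det (aeval u f)).natAbs) h2
  simp only [map_add, map_mul, map_pow, hP, zero_mul, add_zero, map_one, aeval_C, Int.natAbs_mul,
    Int.natAbs_one] at e1 e2
  rw [← Int.natAbs_pow, e1, Int.natAbs_mul, Nat.eq_one_of_mul_eq_one_right e2, mul_one,
    Algebra.algebraMap_eq_smul_one, LinearMap.det_smul, map_one, mul_one, Int.natAbs_pow, Module.finrank_fin_fun]

theorem not_five {u : En 6} (h : ∑ i ∈ Finset.range 5, u ^ i = 0) : False := by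
  have h1 := det_rel (u := u) (P := 1 + X + X ^ 2 + X ^ 3 + X ^ 4) (a := 1 - X) (e := -X + X ^ 2 - X ^ 3)
    (e' := X ^ 2 * (1 + X) ^ 2) (c := 1) (d := -(X ^ 3 - X + 1)) (k := 5) (m := 4)
    (by simpa [Finset.sum_range_succ] using h) (by rw [show (C 5 : ℤ[X]) = 5 from rfl]; ring) (by ring)
  generalize (LinearMap.det (aeval u (1 - X : ℤ[X]))).natAbs = n at h1
  rcases le_or_gt n 11 with h2 | h2
  · have := Nat.pow_le_pow_left h2 4
    rw [h1] at this
    norm_num at this
  · have := Nat.pow_le_pow_left h2 4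
    rw [h1] at this
    norm_num at this

theorem det_nine {u : En 6} (h : ∑ i ∈ Finset.range 3, (u ^ 3) ^ i = 0) : (LinearMap.det (u - 1)).natAbs = 3 := by
  have h1 := det_rel (u := u) (P := 1 + X ^ 3 + X ^ 6) (a := X - 1)
    (e := -2 * X + 5 * X ^ 2 - 7 * X ^ 3 + 5 * X ^ 4 - 2 * X ^ 5)
    (e' := 10 + 11 * X + 7 * X ^ 2 + 10 * X ^ 3 + 4 * X ^ 4 - 4 * X ^ 5) (c := 1)
    (d := -1 - 20 * X + 28 * X ^ 2 - 28 * X ^ 3 + 8 * X ^ 4) (k := 3) (m := 6)
    (by simpa [Finset.sum_range_succ, ← pow_mul] using h) (by rw [show (C 3 : ℤ[X]) = 3 from rfl]; ring) (by ring)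
  rw [map_sub, aeval_X, map_one] at h1
  exact Nat.pow_left_injective (by norm_num) h1

theorem det_three {u : En 6} (h : ∑ i ∈ Finset.range 3, u ^ i = 0) :
    (LinearMap.det (-u - ((2 : ℕ) : ℤ) • (1 : En 6))).natAbs = 27 := by
  have h1 := det_rel (u := u) (P := 1 + X + X ^ 2) (a := -X - C 2) (e := -X ^ 2) (e' := -X) (c := 4) (d := X - 1)
    (k := 3) (m := 2) (by simpa [Finset.sum_range_succ] using h)
    (by rw [show (C 3 : ℤ[X]) = 3 from rfl, show (C 2 : ℤ[X]) = 2 from rfl]; ring) (by ring)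
  rw [map_sub, map_neg, aeval_X, aeval_C, Algebra.algebraMap_eq_smul_one] at h1
  exact Nat.pow_left_injective (n := 2) (by norm_num) h1

/-- an isometry of determinant one in odd rank -/
theorem not_ell_odd (hl : Odd l) {A : Matrix (Fin l) (Fin l) ℤ} (hA : A.det ≠ 0) {u : En l}
    (hu : ∀ x y, u x ⬝ᵥ A.mulVec (u y) = x ⬝ᵥ A.mulVec y) (hd : LinearMap.det u = 1) : ¬ Ell u := by
  classical
  intro h
  set U := LinearMap.toMatrix' u with hU
  have h0 : ∀ x, U.mulVec x = u x := fun x => by rw [hU, LinearMap.toMatrix'_mulVec]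
  have h1 : U.transpose * (A * U) = A := by
    ext i j
    have h2 := hu (Pi.single i 1) (Pi.single j 1)
    rw [← h0, ← h0, Matrix.mulVec_mulVec, Matrix.mulVec_single_one, Matrix.mulVec_single_one,
      Matrix.mulVec_single_one, single_one_dotProduct] at h2
    rw [Matrix.mul_apply]
    exact h2
  have h2 : U.transpose * (A * (U - 1)) = (-(U - 1)).transpose * A := by
    rw [Matrix.mul_sub, Matrix.mul_sub, h1, Matrix.mul_one, neg_sub, Matrix.transpose_sub, Matrix.transpose_one,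
      Matrix.sub_mul, Matrix.one_mul]
  have h3 := congrArg Matrix.det h2
  rw [Matrix.det_mul, Matrix.det_mul, Matrix.det_mul, Matrix.det_transpose, Matrix.det_transpose, Matrix.det_neg,
    Fintype.card_fin, hl.neg_one_pow, hU, LinearMap.det_toMatrix', hd, ← hU] at h3
  have h4 : (U - 1).det = 0 := by
    have h5 : A.det * (2 * (U - 1).det) = 0 := by linear_combination h3
    simpa using (mul_eq_zero.1 h5).resolve_left hA
  obtain ⟨x, hx, h5⟩ := Matrix.exists_mulVec_eq_zero_iff.2 h4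
  rw [Matrix.sub_mulVec, Matrix.one_mulVec, h0, sub_eq_zero] at h5
  exact hx (h x h5)

end Cfsg.Agent.SB.Exc.Tor
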