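import Cfsg.Agent.SB.Exc.Tor.Norm
import Cfsg.Agent.SB.Exc.Frm.TorNum
import Cfsg.Agent.SB.Exc.Crit.Main

/-!
# S5765, exceptional groups, toral case: `BoxTor` (helper64)

`TC.f4` (`p` odd), `TC.e7` : these cases do not occur; `TC.f4_num`, `TC.e6_num`, `TC.e6_two` : the bounds; `boxTor_of`.
-/

set_option autoImplicit false
set_option linter.unusedSectionVars false

namespace Cfsg.Agent.SB.Exc.Tor

open CoxeterSystem Cfsg Cfsg.Lie Cfsg.Lie.ChevalleyDatum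
open Cfsg.Agent.ChevalleyStructure Cfsg.Agent.ChevalleyStructure.CoxeterGeom
  Cfsg.Agent.ChevalleyStructure.CoxeterGeomTypes
open Cfsg.Agent.Tits.Roots Cfsg.Agent.Nodes Cfsg.Agent.Nodes.BNOf Cfsg.Agent.Nodes.RGDChev
open Cfsg.Agent.KFacts.RgdChevCoord
open Cfsg.Agent.BpExc Cfsg.Agent.BpExc.TorChev Cfsg.Agent.BpExc.Fr Cfsg.Agent.BpExc.LangFr
open Cfsg.Agent.H469.Exc Cfsg.Agent.H316.U6 Cfsg.Agent.H129.TorusChar Cfsg.Agent.DS.Ex Cfsg.Agent.DS.Ex.Tor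
  Cfsg.Agent.DS.Nt Cfsg.Agent.H786.FC

variable {p : ℕ} [Fact p.Prime] {G : Type} [Group G] [Finite G] {T S K : Subgroup G} {e : ℕ} {ε : ℤˣ}

section Gen

variable {D : ChevalleyDatum} {l : ℕ} {M : CoxeterMatrix (Fin l)} {hp : IsType D l M} {L : Lift hp p T} {v : M.Group}
  {g : (Fin l → ℤ) ≃+ (Fin l → ℤ)}

theorem cX_fr {φ : MulAut (YY D p)} {h : (Fin l → ℤ) ≃+ (Fin l → ℤ)} (F : FR hp p φ h) {t : YY D p}
    (ht : t ∈ TT D (KK p)) {a : Fin l → ℤ} (ha : RT hp a) (h1 : cX hp t a = 1) : cX hp (φ t) (h a) = 1 := by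
  have h2 := (F.root a).2 ha
  obtain ⟨y, hy⟩ := φ.surjective (xc hp (h a) 1)
  refine cX_eq_one_of_comm ((F.tor t).2 ht) h2 one_ne_zero ?_
  rw [← hy, ← map_mul, ← map_mul, comm_X ht ha h1 ((F.map a ha y).1 (hy ▸ xc_mem h2 1))]

theorem neg_of_sum {u : En l} (h : ∑ i ∈ Finset.range 2, u ^ i = 0) : u = -1 := by
  rw [Finset.sum_range_succ, Finset.sum_range_one, pow_zero, pow_one] at h
  exact eq_neg_of_add_eq_zero_right h

theorem exists_prime_elt {x : T} (hx1 : x ≠ 1) (hx : L.ι x ∈ TT D (KK p)) :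
    ∃ (y : T) (r : ℕ), y ≠ 1 ∧ L.ι y ∈ TT D (KK p) ∧ r.Prime ∧ orderOf y = r := by
  obtain ⟨r, hr, hd⟩ := Nat.exists_prime_and_dvd (mt orderOf_eq_one_iff.1 hx1)
  have h := orderOf_pow_orderOf_div (orderOf_pos x).ne' hd
  exact ⟨x ^ (orderOf x / r), r, fun e => hr.ne_one (by rw [← h, e, orderOf_one]), by rw [map_pow]; exact pow_mem hx _, hr, h⟩

theorem TC.iota_mem (H : TC S L e v ε g) {x : T} (hx : L.ι x ∈ TT D (KK p)) : L.ι x ∈ TF hp p e v ε :=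
  H.mem_TF.2 ⟨hx, L.fix x⟩

theorem TC.sum_eq (H : TC S L e v ε g) (h2 : D = chevF4 → p ≠ 2) {d r : ℕ} (hr : 1 < r) (h : orderOf v = d * r) :
    ∑ i ∈ Finset.range r, rp hp (v ^ d) ^ i = 0 := by
  have := finW hp
  rcases H.ell ((H.cn h2).pow d) with h1 | h1
  · have h3 := orderOf_pos v
    have h4 : 0 < d := Nat.pos_of_mul_pos_right (h ▸ h3)
    have h5 := Nat.le_of_dvd h4 (orderOf_dvd_of_pow_eq_one h1)
    nlinarith
  · exact h1.sum (by rw [← map_pow, ← pow_mul, ← h, pow_orderOf_eq_one, map_one])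

end Gen

/-! ### `F₄` -/

section F4

variable {L : Lift hpF4 p T} {v : CoxeterMatrix.F₄.Group} {g : (Fin 4 → ℤ) ≃+ (Fin 4 → ℤ)}

theorem TC.f4 (H : TC S L e v ε g) (h2 : p ≠ 2) : False := by
  let A : Subgroup (YY chevF4 p) :=
    { carrier := {t | t ∈ TT chevF4 (KK p) ∧ ∀ a, Lg CoxeterMatrix.F₄.toCoxeterSystem hpF4.isCartan a → cX hpF4 t a = 1}
      one_mem' := ⟨one_mem _, fun _ _ => cX_one hpF4 _⟩
      mul_mem' := fun {a b} ha hb => ⟨mul_mem ha.1 hb.1, fun x hx => by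
        rw [cX_mul hpF4 ha.1 hb.1, ha.2 x hx, hb.2 x hx, one_mul]⟩
      inv_mem' := fun {a} ha => ⟨inv_mem ha.1, fun x hx => by
        have h := cX_mul hpF4 (inv_mem ha.1) ha.1 x
        rw [inv_mul_cancel, cX_one, ha.2 x hx, mul_one] at h
        exact h.symm⟩ }
  have : Fact (2 < p) := ⟨lt_of_le_of_ne (Fact.out : p.Prime).two_le h2.symm⟩
  obtain ⟨t, ht, h1⟩ := exists_tor_zpow (p := p) hpF4 H.typ (neg_ne_zero.2 one_ne_zero)
    (Pi.evalAddMonoidHom (fun _ => ℤ) 0)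
  obtain ⟨b, hb⟩ := exists_lg
  obtain ⟨a, ha, h⟩ := H.pure A (fun _ h => h.1) (fun e => by
    have h3 : t ∈ A := ⟨ht, fun a ha => by rw [h1]; exact (lg_even ha).neg_one_zpow⟩
    rw [e, Subgroup.mem_bot] at h3
    have h4 := h1 (sr 0)
    rw [h3, cX_one, Pi.evalAddMonoidHom_apply, sr_self, zpow_one] at h4
    exact CharP.neg_one_ne_one (KK p) p h4.symm) (fun φ hφ t ht => by
      obtain ⟨h, F⟩ := H.sfr (fun _ => h2) φ hφ
      refine ⟨(F.tor t).2 ht.1, fun a ha => ?_⟩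
      have h3 := ha.map (g := h.symm) fun x => by rw [← F.root, h.apply_symm_apply]
      have h4 := cX_fr F ht.1 h3.1 (ht.2 _ h3)
      rwa [h.apply_symm_apply] at h4) b hb.1
  exact h (ha.2 b hb)

theorem TC.f4_num (H : TC S L e v ε g) {θ : K →* YY chevF4 p} {ω : K →* CoxeterMatrix.F₄.Group} (O : Om L θ ω)
    (hK : ∀ c ∈ K, c ^ 2 = 1 → c = 1) : Nat.card K ≤ 9 * (p ^ e + 1) ^ 4 := by
  have h1 : ¬ 2 ∣ Nat.card K := fun h => by
    obtain ⟨x, hx⟩ := exists_prime_orderOf_dvd_card' 2 h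
    have h2 : x = 1 := Subtype.ext (hK x x.2 (congrArg Subtype.val (hx ▸ pow_orderOf_eq_one x)))
    rw [h2, orderOf_one] at hx
    exact absurd hx (by norm_num)
  have h2 : Nat.card ω.range ∣ 2 ^ 7 * 9 := (Subgroup.card_subgroup_dvd_card _).trans (by rw [cardW4]; norm_num)
  have h3 : (Nat.card ω.range).Coprime (2 ^ 7) := Nat.Coprime.pow_right 7
    (Nat.prime_two.coprime_iff_not_dvd.2 fun h => h1 (h.trans (Subgroup.card_range_dvd ω))).symm
  rw [mul_comm]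
  exact (H.card_le O).trans (Nat.mul_le_mul H.card_TF_le (Nat.le_of_dvd (by norm_num) (h3.dvd_of_dvd_mul_left h2)))

end F4

/-! ### `E₇` -/

theorem TC.e7 {L : Lift hpE7 p T} {v : CoxeterMatrix.E₇.Group} {g : (Fin 7 → ℤ) ≃+ (Fin 7 → ℤ)} (H : TC S L e v ε g)
    (hb : Nat.card CoxeterMatrix.E₇.Group * (p ^ e + 1) ^ 7 < Nat.card T) : False := by
  have h1 := H.cn fun h => absurd ((typ_l hpE7).1 h) (by norm_num)
  refine notSolv7 (H.solv hb ?_)
  have h2 := (H.ell (h1.pow 2)).resolve_right (not_ell_sq7 v)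
  rcases H.ell h1 with h | h
  · exact Or.inl (by rw [h, map_one])
  · exact Or.inr (neg_of_sum (h.sum (by rw [← map_pow, h2, map_one])))

/-! ### `E₆` -/

section E6

theorem nF4 : chevE6 = chevF4 → p ≠ 2 := fun h => absurd ((typ_l hpE6).1 h) (by norm_num)

theorem card_pgroup {r : ℕ} (hr : r.Prime) {X : Subgroup CoxeterMatrix.E₆.Group} (h : IsPGroup r X) {a b : ℕ}
    (hab : a * b = 51840) (ha : r.Coprime a) : Nat.card X ≤ b := by
  have := finW hpE6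
  have := Fact.mk hr
  obtain ⟨j, hj⟩ := IsPGroup.iff_card.1 h
  have h1 : Nat.card X ∣ a * b := (Subgroup.card_subgroup_dvd_card _).trans (by rw [cardW6, hab])
  refine Nat.le_of_dvd (Nat.pos_of_mul_pos_left (a := a) (by rw [hab]; norm_num)) (Nat.Coprime.dvd_of_dvd_mul_left ?_ h1)
  rw [hj]
  exact ha.pow_left j

variable {L : Lift hpE6 p T} {v : CoxeterMatrix.E₆.Group} {g : (Fin 6 → ℤ) ≃+ (Fin 6 → ℤ)}

namespace TC

variable (H : TC S L e v ε g)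
include H

theorem pow_three (h0 : ∀ x : T, L.ι x ∈ TT chevE6 (KK p) → x = 1) {t : YY chevE6 p} (ht : t ∈ TF hpE6 p e v ε) :
    t ^ 3 = 1 := by
  obtain ⟨x, hx⟩ := L.pow_dd t (H.mem_TF.1 ht).2
  rw [h0 x (hx ▸ pow_mem ht.1 _), map_one] at hx
  rcases L.hdd with h | ⟨-, h⟩ | ⟨h, -⟩
  · rw [h, pow_one] at hx
    rw [← hx, one_pow]
  · rw [← h, ← hx]
  · exact absurd ((typ_l hpE6).2.2.1 h) (by norm_num)

theorem exists_T0 (h2 : p ≠ 2) : ∃ x : T, x ≠ 1 ∧ L.ι x ∈ TT chevE6 (KK p) := by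
  by_contra h
  have h3 : ∀ t ∈ TF hpE6 p e v ε, t ^ 3 = 1 := fun t => H.pow_three fun x hx => by
    by_contra h1
    exact h ⟨x, h1, hx⟩
  have h4 : p ≤ p ^ e := Nat.le_self_pow H.he.ne' p
  by_cases hp3 : p = 3
  · refine no_div (by norm_num) (card_W_pos hpE6) (smul_rp_pow (hp := hpE6) v ε) (q := p ^ e) one_ne_zero (by omega)
      fun x => Kr_triv (hp := hpE6) H.typ (det_TF H.he v ε) fun t ht => ?_
    rw [eq_one_of_pow_p hpE6 ht.1 ((congrArg (t ^ ·) hp3).trans (h3 t ht)), cX_one]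
  · have h5 := (Fact.out : p.Prime).five_le_of_ne_two_of_ne_three h2 hp3
    refine no_div (by norm_num) (card_W_pos hpE6) (smul_rp_pow (hp := hpE6) v ε) (q := p ^ e) three_ne_zero (by omega)
      fun x => Kr_triv (hp := hpE6) H.typ (det_TF H.he v ε) fun t ht => ?_
    rw [(isMC_cX hpE6 ht.1).zsmul, zpow_natCast, ← cX_pow hpE6 ht.1, h3 t ht, cX_one]

theorem not_nine (h3 : p ≠ 3) {d : ℕ} (h : orderOf v = d * 3 * 3) : False := by
  have h1 := H.sum_eq nF4 (by norm_num) h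
  rw [pow_mul, map_pow] at h1
  have h2 := det_nine h1
  have h4 : ((LinearMap.det (rp hpE6 (v ^ d) - 1) : ℤ) : KK p) ≠ 0 := fun h4 => by
    have h5 := Int.natAbs_dvd_natAbs.2 ((CharP.intCast_eq_zero_iff (KK p) p _).1 h4)
    rw [h2, Int.natAbs_natCast] at h5
    exact h3 ((Nat.prime_dvd_prime_iff_eq Fact.out Nat.prime_three).1 h5)
  have h5 := (card_Kr (hp := hpE6) H.typ h4).trans h2
  have := Fact.mk Nat.prime_three
  have h6 : Kr hpE6 p (rp hpE6 (v ^ d) - 1) ≠ ⊥ := fun e => by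
    rw [e, Subgroup.card_bot] at h5
    exact absurd h5 (by norm_num)
  obtain ⟨t, ht⟩ := Subgroup.ne_bot_iff_exists_ne_one.1 h6
  obtain ⟨b, hb, h7⟩ := triv3 (isMC_cX hpE6 t.2.1) fun x => by
    rw [← cX_pow hpE6 t.2.1, ← h5, ← Subgroup.coe_pow, pow_card_eq_one', Subgroup.coe_one, cX_one]
  obtain ⟨a, ha, h8⟩ := H.pure (Kr hpE6 p (rp hpE6 (v ^ d) - 1)) (fun _ h => h.1) h6 (H.inv_Kr ((H.cn nF4).pow d)) b hb
  obtain ⟨n, hn⟩ := mem_powers_of_prime_card h5 (g' := ⟨a, ha⟩) ht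
  refine h8 ?_
  rw [← show (t : YY chevE6 p) ^ n = a from congrArg Subtype.val hn, cX_pow hpE6 t.2.1, h7, one_pow]

variable (hb : Nat.card CoxeterMatrix.E₆.Group * (p ^ e + 1) ^ 6 < Nat.card T)
include hb

theorem ord_v : ∃ a, orderOf v = 3 ^ (a + 1) := by
  have := finW hpE6
  have h1 : orderOf v = 3 ^ _ := Nat.eq_prime_pow_of_unique_prime_dvd (orderOf_pos v).ne' fun {r} hr hd => by
    have h2 : r ∣ 2 ^ 7 * 3 ^ 4 * 5 := (hd.trans (orderOf_dvd_natCard v)).trans (by rw [cardW6]; norm_num)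
    obtain ⟨d, hd⟩ := hd
    have h3 := H.sum_eq nF4 hr.one_lt (hd.trans (mul_comm _ _))
    rcases (Nat.Prime.dvd_mul hr).1 h2 with h | h
    · rcases (Nat.Prime.dvd_mul hr).1 h with h | h
      · obtain rfl := (Nat.prime_dvd_prime_iff_eq hr Nat.prime_two).1 (hr.dvd_of_dvd_pow h)
        exact absurd (neg_of_sum h3) (neg_not_W6 _)
      · exact (Nat.prime_dvd_prime_iff_eq hr Nat.prime_three).1 (hr.dvd_of_dvd_pow h)
    · obtain rfl := (Nat.prime_dvd_prime_iff_eq hr Nat.prime_five).1 h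
      exact (not_five h3).elim
  obtain ⟨a, ha⟩ : ∃ a, orderOf v = 3 ^ a := ⟨_, h1⟩
  cases a with
  | zero => exact absurd (H.solv hb (Or.inl (by rw [orderOf_eq_one_iff.1 ha, map_one]))) notSolv6
  | succ a => exact ⟨a, ha⟩

theorem odd_TF (h2 : p ≠ 2) {t : YY chevE6 p} (ht : t ∈ TF hpE6 p e v ε) (h : t ^ 2 = 1) : t = 1 := by
  obtain ⟨a, ha⟩ := H.ord_v hb
  have h1 := H.sum_eq nF4 (d := 1) (r := 3 ^ (a + 1)) (Nat.one_lt_pow (Nat.succ_ne_zero a) (by norm_num)) (by rw [ha, one_mul])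
  have hm := isMC_cX hpE6 ht.1
  have h3 : ∀ n : ℤ, Odd n → ∀ x, cX hpE6 t (n • x) = cX hpE6 t x := by
    rintro _ ⟨k, rfl⟩ x
    rw [hm.zsmul, zpow_add_one₀ (hm.ne_zero x), zpow_mul, zpow_ofNat, ← cX_pow hpE6 ht.1, h, cX_one, one_zpow, one_mul]
  have h4 := pow_sum_eq_one (a := 1) ht.1 (fun x => by
    have h5 := ht.2 x
    rw [LinearMap.sub_apply, LinearMap.smul_apply, LinearMap.smul_apply, Module.End.one_apply, hm.sub,
      div_eq_one_iff_eq (hm.ne_zero _), h3 _ (by rcases Int.units_eq_one_or ε with h | h <;> rw [h] <;> decide),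
      h3 _ (by exact_mod_cast ((Fact.out : p.Prime).odd_of_ne_two h2).pow)] at h5
    rw [pow_one, pow_one, h5]) h1
  simp only [one_pow, Finset.sum_const, Finset.card_range, smul_eq_mul, mul_one] at h4
  obtain ⟨k, hk⟩ : Odd (3 ^ (a + 1)) := Odd.pow (by decide)
  rwa [hk, pow_succ, pow_mul, h, one_pow, one_mul] at h4

theorem exists_odd (h2 : p ≠ 2) :
    ∃ (y : T) (r : ℕ), y ≠ 1 ∧ L.ι y ∈ TT chevE6 (KK p) ∧ r.Prime ∧ y ^ r = 1 ∧ r ≠ 2 ∧ r ≠ p := by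
  obtain ⟨x, hx1, hx⟩ := H.exists_T0 h2
  obtain ⟨y, r, h1, h3, hr, h4⟩ := exists_prime_elt hx1 hx
  have h5 : y ^ r = 1 := h4 ▸ pow_orderOf_eq_one y
  have h6 : L.ι y ^ r = 1 := by rw [← map_pow, h5, map_one]
  have h7 : L.ι y ≠ 1 := fun e => h1 (L.inj (e.trans (map_one _).symm))
  refine ⟨y, r, h1, h3, hr, h5, ?_, ?_⟩
  · rintro rfl
    exact h7 (H.odd_TF hb h2 (H.iota_mem h3) h6)
  · rintro rfl
    exact h7 (eq_one_of_pow_p hpE6 h3 h6)

/-- `O₂(S ⊓ T) = 1` -/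
theorem e6_two (h2 : p ≠ 2) (X : Subgroup G) (hX : X ≤ S ⊓ T) (hX2 : IsPGroup 2 X) (hS : Nm S X) : X = ⊥ := by
  have := finW hpE6
  obtain ⟨y, r, h1, h3, hr, h5, h6, -⟩ := H.exists_odd hb h2
  by_contra h0
  obtain ⟨x, hx⟩ := Subgroup.ne_bot_iff_exists_ne_one.1 h0
  obtain ⟨n, hn⟩ := hX2.exists_orderOf_eq_pow x
  obtain ⟨c, hc⟩ : ∃ c : X, orderOf c = 2 := ⟨_, orderOf_pow_orderOf_div (orderOf_pos x).ne' (by
    rw [hn]
    refine dvd_pow_self 2 fun e => hx ?_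
    rwa [e, pow_zero, orderOf_eq_one_iff] at hn)⟩
  have h7 : (c : G) ^ 2 = 1 := congrArg Subtype.val (hc ▸ pow_orderOf_eq_one c)
  have h8 := indL_iota (L := L) ⟨c, (hX c.2).2⟩
  have h9 : L.ι ⟨c, (hX c.2).2⟩ ^ 2 = 1 := by rw [← map_pow, ← map_one L.ι]; exact congrArg _ (Subtype.ext h7)
  obtain ⟨w, hw⟩ := H.exists_rp h8 (hX c.2).1
  obtain ⟨k, hk⟩ := H.fit_pow hb h1 h3 hr h5 (R1.le_fit (hX.trans inf_le_left) hX2 hS c.2) h8 hw
  have hw2 : w ^ 2 = 1 := (hw.pow 2).unique (by rw [h9]; exact RP.of_mem (one_mem _))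
  have hw1 : w = 1 := orderOf_eq_one_iff.1 (Nat.eq_one_of_dvd_coprimes (((Nat.coprime_primes hr Nat.prime_two).2 h6).pow_left k)
    (orderOf_dvd_of_pow_eq_one hk) (orderOf_dvd_of_pow_eq_one hw2))
  rw [hw1] at hw
  have h10 := L.inj ((H.odd_TF hb h2 (H.iota_mem hw.mem_T) h9).trans (map_one _).symm)
  rw [show c = 1 from Subtype.ext (congrArg (fun u : T => (u : G)) h10), orderOf_one] at hc
  exact absurd hc (by norm_num)

theorem e6_q2 (hq : p ^ e = 2) (hK : K ≤ fit S) {θ : K →* YY chevE6 p} {ω : K →* CoxeterMatrix.E₆.Group} (O : Om L θ ω) :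
    (Nat.card K ≤ 27 * 648 ∧ Nat.card ↥(S ⊓ T) ≤ 648) ∨ (Nat.card K ≤ 343 ∧ Nat.card ↥(S ⊓ T) ≤ 343 * 648) ∨
      (Nat.card K ≤ 27 * 81 ∧ Nat.card ↥(S ⊓ T) ≤ 27 * 648) := by
  have hp2 := (Nat.prime_two.pow_eq_iff.1 hq).1
  obtain ⟨a, ha⟩ := H.ord_v hb
  have h1 : ∑ i ∈ Finset.range 3, rp hpE6 v ^ i = 0 := by
    cases a with
    | zero =>
      have h := H.sum_eq nF4 (d := 1) (r := 3) (by norm_num) ha
      rwa [pow_one] at h
    | succ a => exact (H.not_nine (by omega) (d := 3 ^ a) ha).elim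
  have h2 : ∀ {K : Subgroup G} {θ : K →* YY chevE6 p} {ω : K →* CoxeterMatrix.E₆.Group}, Om L θ ω →
      Nat.card ω.range ≤ 648 := fun O => card_le_648 h1 _ (by
    rintro _ ⟨c, rfl⟩
    exact H.comm_v (O.rp c) (O.ind c).fix)
  obtain ⟨θ', ω', O'⟩ := H.omT
  have := H.finite_TF
  have h7 : ε = 1 → ∀ t ∈ TF hpE6 p e v ε, t ^ 7 = 1 := fun hε t ht => pow_sum_eq_one (a := 2) ht.1 (fun x => by
    have h := H.cX_σ ht.1 x
    rwa [(H.mem_TF.1 ht).2, H.hg, hε, Units.val_one, one_smul, hq] at h) h1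
  have h27 : ε = -1 → Nat.card (TF hpE6 p e v ε) = 27 := fun hε => by
    rw [H.card_TF, hq, hε, Units.val_neg, Units.val_one, neg_one_smul]
    exact det_three h1
  by_cases h0 : ∀ x : T, L.ι x ∈ TT chevE6 (KK p) → x = 1
  · refine Or.inl ⟨(H.card_le O).trans (Nat.mul_le_mul ?_ (h2 O)), ?_⟩
    · rcases Int.units_eq_one_or ε with h | h
      · rw [(Subgroup.eq_bot_iff_forall _).2 fun t ht => orderOf_eq_one_iff.1 (Nat.eq_one_of_dvd_coprimes
          (show Nat.Coprime 3 7 by norm_num) (orderOf_dvd_of_pow_eq_one (H.pow_three h0 ht))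
            (orderOf_dvd_of_pow_eq_one (h7 h t ht))), Subgroup.card_bot]
        norm_num
      · exact (h27 h).le
    · have h3 := O'.card_le H.ctx.as (B := ⊥) fun c hc => by
        rw [O'.eq_iota H.ctx.as c c.2.2] at hc ⊢
        rw [h0 _ hc, map_one]
        exact one_mem _
      rw [Subgroup.card_bot, one_mul] at h3
      exact h3.trans (h2 O')
  · push Not at h0
    obtain ⟨x, hx, hx1⟩ := h0
    obtain ⟨y, r, h3, h4, hr, h5⟩ := exists_prime_elt hx1 hx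
    have h6 := H.pgroup hb h3 h4 hr (h5 ▸ pow_orderOf_eq_one y) hK O
    rw [← orderOf_injective L.ι L.inj] at h5
    rcases Int.units_eq_one_or ε with h | h
    · obtain rfl := (Nat.prime_dvd_prime_iff_eq hr Nat.prime_seven).1
        (h5 ▸ orderOf_dvd_of_pow_eq_one (h7 h _ (H.iota_mem h4)))
      have := Fact.mk hr
      obtain ⟨j, hj⟩ := IsPGroup.iff_card.1 (show IsPGroup 7 (TF hpE6 p e v ε) from
        fun t => ⟨1, Subtype.ext (h7 h t t.2)⟩)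
      have h8 : Nat.card (TF hpE6 p e v ε) ≤ 343 := by
        have h9 := H.card_TF_le
        rw [hq] at h9
        rw [hj] at h9 ⊢
        refine Nat.pow_le_pow_right (n := 7) (i := j) (j := 3) (by norm_num) (Nat.le_of_lt_succ ?_)
        exact (Nat.pow_lt_pow_iff_right (by norm_num : 1 < 7)).1 (h9.trans_lt (by norm_num))
      exact Or.inr (Or.inl ⟨(H.card_le O).trans (Nat.mul_le_mul h8 (card_pgroup hr h6 (a := 51840) (b := 1) rfl (by norm_num))),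
        (H.card_le O').trans (Nat.mul_le_mul h8 (h2 O'))⟩)
    · have h8 : r ∣ 3 ^ 3 := by
        rw [← h5, show 3 ^ 3 = 27 from rfl, ← h27 h]
        exact Subgroup.orderOf_dvd_natCard _ (H.iota_mem h4)
      obtain rfl := (Nat.prime_dvd_prime_iff_eq hr Nat.prime_three).1 (hr.dvd_of_dvd_pow h8)
      exact Or.inr (Or.inr ⟨(H.card_le O).trans (Nat.mul_le_mul (h27 h).le
        (card_pgroup hr h6 (a := 640) (b := 81) rfl (by norm_num))), (H.card_le O').trans (Nat.mul_le_mul (h27 h).le (h2 O'))⟩)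

theorem e6_num (hK : K ≤ fit S) {θ : K →* YY chevE6 p} {ω : K →* CoxeterMatrix.E₆.Group} (O : Om L θ ω) :
    NumOK 6 p (p ^ e) (Nat.card K) (Nat.card ↥(S ⊓ T)) := by
  obtain ⟨θ', ω', O'⟩ := H.omT
  have h1 := H.card_le' O
  have h2 := H.card_le' O'
  rw [cardW6] at h1 h2
  have hq : 1 < p ^ e := Nat.one_lt_pow H.he.ne' (Fact.out : p.Prime).one_lt
  refine Or.inr (Or.inr ?_)
  by_cases h4 : 4 ≤ p ^ e
  · exact Or.inl ⟨rfl, h4, h1, h2⟩
  by_cases h3 : p ^ e = 3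
  · have hp3 := (Nat.prime_three.pow_eq_iff.1 h3).1
    obtain ⟨y, r, a1, a2, hr, a3, a4, a5⟩ := H.exists_odd hb (by omega)
    have h5 := H.card_TF_le
    rw [h3] at h2 h5
    refine Or.inr (Or.inl ⟨rfl, h3, ?_, h2⟩)
    rw [mul_comm]
    refine (H.card_le O).trans (Nat.mul_le_mul h5 (card_pgroup hr (H.pgroup hb a1 a2 hr a3 hK O) (a := 2 ^ 7 * 3 ^ 4) rfl ?_))
    exact (((Nat.coprime_primes hr Nat.prime_two).2 a4).pow_right 7).mul_right
      (((Nat.coprime_primes hr Nat.prime_three).2 (hp3 ▸ a5)).pow_right 4)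
  · have h5 : p ^ e = 2 := by omega
    exact Or.inr (Or.inr ⟨rfl, h5, H.e6_q2 hb h5 hK O⟩)

end TC

end E6

/-- **The normaliser of a maximal torus.** -/
theorem boxTor_of (hI : BoxCI) (hC : BoxCrit) : BoxTor := by
  intro D l M hp hD p _ G _ _ T S C q F A₀ h0 hA hT hN
  obtain ⟨z, v, ε, g, H⟩ := exists_TC hD C F h0 hA hT hN
  have hq : p ^ F.m.e = q := F.m.hq
  have hb : ∀ n ≤ 696729600, n * (p ^ F.m.e + 1) ^ l < Nat.card T := fun n hn => by
    rw [hq, mul_comm]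
    exact (Nat.mul_le_mul_left _ hn).trans_lt (ord_gt F hD)
  obtain ⟨θ, ω, O⟩ := H.om (K := fit S ⊓ F.ID C.as.normal) (inf_le_left.trans (fit_le S))
    fun c hc => hc.2.elim fun _ hy => ⟨_, indL_conj hy z⟩
  obtain ⟨θ', ω', O'⟩ := H.omT
  have h1 := H.card_le' O
  have h2 := H.card_le' O'
  rw [hq] at h1 h2
  rcases typ_cases hp hD with ⟨rfl, h⟩ | ⟨rfl, h⟩ | ⟨rfl, h⟩ | ⟨rfl, h⟩ <;> cases h
  · by_cases hp2 : p = 2
    · have h3 := H.f4_num O fun c hc h => Crit.eq_one_of_p C hc.1 hc.2 (k := 1) (by rw [pow_one, hp2, h])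
      rw [hq] at h3
      rw [cardW4] at h2
      exact fin_crit hI hC hD C F (fun _ h => absurd hp2 h) (Or.inl ⟨rfl, hp2, h3, h2⟩)
    · exact (H.f4 hp2).elim
  · have h3 := hb _ (cardW6.trans_le (by norm_num))
    have h4 := H.e6_num h3 inf_le_left O
    rw [hq] at h4
    exact fin_crit hI hC hD C F (fun _ => H.e6_two h3) h4
  · exact (H.e7 (hb _ (cardW7.trans_le (by norm_num)))).elim
  · rw [cardW8] at h1 h2
    exact fin_crit hI hC hD C F (fun h => absurd ((typ_l hp).2.1 h) (by norm_num)) (Or.inr (Or.inl ⟨rfl, h1, h2⟩))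

end Cfsg.Agent.SB.Exc.Tor
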